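import Groth.Agent.S2155
import Groth.Agent.Lefpen.H704.RelLocus
import Groth.Agent.Pi1.H536.CurveFam
import Groth.Agent.VarietyA.SmoothLocusSch
import Groth.Agent.Fga.HilbClosed

/-!
# Fibres of the universal family at field points

* `smooth_of_mem_goodOpen`, `mem_goodOpen_of_smooth`: the fibre at a field point is smooth of relative dimension `m` if
  and only if the point is in the open set `goodOpen`.
* `isPullback_of_hilbPull`, `exists_of_point`: fibres of the universal family and closed subschemes.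
-/

set_option autoImplicit false
universe u
open CategoryTheory CategoryTheory.Limits AlgebraicGeometry TopologicalSpace Opposite

namespace K496.FibOpen

open Groth.Agent Groth.Agent.Lefpen.H704.RelLocus

section Smooth

variable {Y S : Scheme.{u}} (π : Y ⟶ S) {k : Type u} [Field k] {C : Scheme.{u}} {a : C ⟶ Y}
  {p : C ⟶ Spec (CommRingCat.of k)} {t : Spec (CommRingCat.of k) ⟶ S} (h : IsPullback a p π t)

include h

theorem apply_eq (c : C) : π (a c) = t (IsLocalRing.closedPoint k) := by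
  rw [← Scheme.Hom.comp_apply, h.w, Scheme.Hom.comp_apply]
  exact congrArg _ (Subsingleton.elim (α := PrimeSpectrum k) _ _)

theorem exists_of_apply (y : Y) (hy : π y = t (IsLocalRing.closedPoint k)) : ∃ c : C, a c = y := by
  obtain ⟨z, hz, -⟩ := Scheme.Pullback.exists_preimage_pullback (f := π) (g := t) y
    (IsLocalRing.closedPoint k : ↥(Spec (CommRingCat.of k))) hy
  refine ⟨h.isoPullback.inv z, ?_⟩
  rw [← hz]
  exact congr($(h.isoPullback_inv_fst) z)

theorem smooth_of_mem_goodOpen [UniversallyClosed π] (m : ℕ)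
    (ht : t (IsLocalRing.closedPoint k) ∈ goodOpen m π) : SmoothOfRelativeDimension m p := by
  rw [Groth.Agent.Lefpen.H704.RelLocus.smooth_iff]
  intro c
  have h2 := ht (a c) (apply_eq π h c)
  rw [mem_smOpen] at h2 ⊢
  obtain ⟨V, hV, hs⟩ := h2
  have hpb : IsPullback (a ∣_ V) ((a ⁻¹ᵁ V).ι ≫ p) (V.ι ≫ π) t := (isPullback_morphismRestrict a V).paste_vert h
  have hbc := smoothOfRelativeDimension_isStableUnderBaseChange (n := m)
  exact ⟨a ⁻¹ᵁ V, hV, MorphismProperty.of_isPullback (P := @SmoothOfRelativeDimension m) hpb hs⟩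

theorem mem_goodOpen_of_smooth [UniversallyClosed π] [Flat π] [LocallyOfFinitePresentation π] (m : ℕ)
    [SmoothOfRelativeDimension m p] : t (IsLocalRing.closedPoint k) ∈ goodOpen m π := by
  intro y hy
  obtain ⟨c, rfl⟩ := exists_of_apply π h y hy
  have hp : Smooth p := SmoothOfRelativeDimension.smooth m p
  have hlp : LocallyOfFinitePresentation p := inferInstance
  have h1 : p.smoothLocus = a ⁻¹ᵁ π.smoothLocus := Groth.Agent.S2155.result π t p a h (Or.inl inferInstance)
  have h2 : a c ∈ π.smoothLocus := by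
    have h3 : c ∈ p.smoothLocus := by
      rw [Scheme.Hom.smoothLocus_eq_top]
      trivial
    rw [h1] at h3
    exact h3
  have hU : Smooth ((π.smoothLocus).ι ≫ π) := VarietyA.SmoothLocusSch.smooth_smoothLocus_ι π
  obtain ⟨n, V, hV, hs⟩ := Pi1.H536.CurveFam.exists_relDim ((π.smoothLocus).ι ≫ π) ⟨a c, h2⟩
  let W : Y.Opens := (π.smoothLocus).ι ''ᵁ V
  have hW : a c ∈ W := ⟨⟨a c, h2⟩, hV, rfl⟩
  have hWs : SmoothOfRelativeDimension n (W.ι ≫ π) := by
    have e : W.ι ≫ π = ((π.smoothLocus).ι.isoImage V).inv ≫ V.ι ≫ (π.smoothLocus).ι ≫ π := by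
      have e1 : ((π.smoothLocus).ι.isoImage V).inv ≫ V.ι ≫ (π.smoothLocus).ι = W.ι :=
        Scheme.Hom.isoImage_inv_ι _ _
      rw [← e1, Category.assoc, Category.assoc]
    rw [e]
    exact IsZariskiLocalAtSource.comp (P := @SmoothOfRelativeDimension n) hs _
  have hpb : IsPullback (a ∣_ W) ((a ⁻¹ᵁ W).ι ≫ p) (W.ι ≫ π) t := (isPullback_morphismRestrict a W).paste_vert h
  have hbc := smoothOfRelativeDimension_isStableUnderBaseChange (n := n)
  have h4 : SmoothOfRelativeDimension n ((a ⁻¹ᵁ W).ι ≫ p) :=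
    MorphismProperty.of_isPullback (P := @SmoothOfRelativeDimension n) hpb hWs
  have h5 : n = m := Pi1.H536.CurveFam.relDim_unique k p m n (a ⁻¹ᵁ W) ⟨c, hW⟩ h4
  subst h5
  exact (mem_smOpen n π _).2 ⟨W, hW, hWs⟩

end Smooth

section Hilb

open Groth.Agent.Fga Groth.Agent.Fga.HilbClosed

variable {k : Type u} [Field k] {X : Scheme.{u}} (x : X ⟶ Spec (CommRingCat.of k))
  {H : Over (Spec (CommRingCat.of k))} (I : (PicF.XT x H).IdealSheafData)
  (h : Over.mk (𝟙 (Spec (CommRingCat.of k))) ⟶ H)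

/-- A closed subscheme of `X` with class `h` is the fibre of the family over `h`. -/
theorem isPullback_of_hilbPull {C : Scheme.{u}} (i : C ⟶ X) [IsClosedImmersion i]
    (e : FGA.hilbPull x h I = i.ker.comap (pullback.fst x (Over.mk (𝟙 (Spec (CommRingCat.of k)))).hom)) :
    ∃ a : C ⟶ I.subscheme, IsPullback a (i ≫ x) (I.subschemeι ≫ PicF.XTproj x H) h.left ∧
      a ≫ I.subschemeι ≫ pullback.fst x H.hom = i := by
  let P := Over.mk (𝟙 (Spec (CommRingCat.of k)))
  have hiso : IsIso (pullback.fst x P.hom) := by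
    have : IsIso P.hom := inferInstanceAs (IsIso (𝟙 (Spec (CommRingCat.of k))))
    infer_instance
  let ℓ : C ⟶ PicF.XT x P := i ≫ inv (pullback.fst x P.hom)
  have hℓ : ℓ ≫ pullback.fst x P.hom = i := by simp [ℓ]
  have hℓc : IsClosedImmersion ℓ := inferInstance
  have hsq2 : IsPullback (𝟙 C) ℓ i (pullback.fst x P.hom) :=
    IsPullback.of_horiz_isIso ⟨by rw [Category.id_comp, hℓ]⟩
  have h2 : ℓ.ker = i.ker.comap (pullback.fst x P.hom) := ker_of_isPullback hsq2
  have h3 : ℓ.ker = (pullback.snd I.subschemeι (PicF.XTmap x h)).ker := by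
    rw [h2, ← e]
    rfl
  have hsc : IsClosedImmersion (pullback.snd I.subschemeι (PicF.XTmap x h)) := inferInstance
  -- `C` and the pullback are isomorphic over `X_k`
  let φ : C ⟶ pullback I.subschemeι (PicF.XTmap x h) :=
    IsClosedImmersion.lift (pullback.snd I.subschemeι (PicF.XTmap x h)) ℓ h3.ge
  have hφ : φ ≫ pullback.snd I.subschemeι (PicF.XTmap x h) = ℓ := IsClosedImmersion.lift_fac _ _ _
  let ψ : pullback I.subschemeι (PicF.XTmap x h) ⟶ C :=
    IsClosedImmersion.lift ℓ (pullback.snd I.subschemeι (PicF.XTmap x h)) h3.le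
  have hψ : ψ ≫ ℓ = pullback.snd I.subschemeι (PicF.XTmap x h) := IsClosedImmersion.lift_fac _ _ _
  have hφi : IsIso φ := by
    refine ⟨ψ, ?_, ?_⟩
    · rw [← cancel_mono ℓ, Category.assoc, hψ, hφ, Category.id_comp]
    · rw [← cancel_mono (pullback.snd I.subschemeι (PicF.XTmap x h)), Category.assoc, hφ, hψ, Category.id_comp]
  have hsq : IsPullback (φ ≫ pullback.fst I.subschemeι (PicF.XTmap x h)) ℓ I.subschemeι (PicF.XTmap x h) := by
    refine IsPullback.of_iso (IsPullback.of_hasPullback I.subschemeι (PicF.XTmap x h)) (asIso φ).symm (Iso.refl _)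
      (Iso.refl _) (Iso.refl _) ?_ ?_ ?_ ?_
    · simp
    · rw [Iso.symm_hom, asIso_inv, Iso.refl_hom, Category.comp_id, ← hφ, IsIso.inv_hom_id_assoc]
    · simp
    · simp
  have hX := RelCart.isPullback_XTmap x h
  have hP := hsq.paste_vert hX
  refine ⟨φ ≫ pullback.fst I.subschemeι (PicF.XTmap x h), ?_, ?_⟩
  · have e1 : ℓ ≫ PicF.XTproj x P = i ≫ x := by
      have e2 : ℓ ≫ pullback.fst x P.hom ≫ x = ℓ ≫ pullback.snd x P.hom ≫ P.hom :=
        congrArg (fun q => ℓ ≫ q) pullback.condition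
      rw [← Category.assoc, hℓ] at e2
      rw [e2]
      change _ = ℓ ≫ PicF.XTproj x P ≫ 𝟙 _
      rw [Category.comp_id]
    rw [← e1]
    exact hP
  · rw [← Category.assoc, hsq.w, Category.assoc, FGA.XTmap_fst, hℓ]

/-- The closed subscheme of `X` given by a point of the Hilbert scheme. -/
theorem exists_of_point :
    ∃ (C : Scheme.{u}) (i : C ⟶ X) (a : C ⟶ I.subscheme), IsClosedImmersion i ∧
      IsPullback a (i ≫ x) (I.subschemeι ≫ PicF.XTproj x H) h.left ∧
      a ≫ I.subschemeι ≫ pullback.fst x H.hom = i ∧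
      FGA.hilbPull x h I = i.ker.comap (pullback.fst x (Over.mk (𝟙 (Spec (CommRingCat.of k)))).hom) := by
  let P := Over.mk (𝟙 (Spec (CommRingCat.of k)))
  have hiso : IsIso (pullback.fst x P.hom) := by
    have : IsIso P.hom := inferInstanceAs (IsIso (𝟙 (Spec (CommRingCat.of k))))
    infer_instance
  let ℓ : pullback I.subschemeι (PicF.XTmap x h) ⟶ PicF.XT x P := pullback.snd I.subschemeι (PicF.XTmap x h)
  have hℓc : IsClosedImmersion ℓ := inferInstanceAs (IsClosedImmersion (pullback.snd _ _))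
  have hic : IsClosedImmersion (ℓ ≫ pullback.fst x P.hom) := inferInstance
  refine ⟨_, ℓ ≫ pullback.fst x P.hom, pullback.fst I.subschemeι (PicF.XTmap x h), hic, ?_, ?_, ?_⟩
  · have hsq := IsPullback.of_hasPullback I.subschemeι (PicF.XTmap x h)
    have hX := RelCart.isPullback_XTmap x h
    have hP := hsq.paste_vert hX
    have e1 : (ℓ ≫ pullback.fst x P.hom) ≫ x = ℓ ≫ PicF.XTproj x P := by
      rw [Category.assoc, pullback.condition]
      change ℓ ≫ PicF.XTproj x P ≫ 𝟙 _ = _
      rw [Category.comp_id]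
    rw [e1]
    exact hP
  · rw [← Category.assoc, pullback.condition, Category.assoc, FGA.XTmap_fst]
  · have hsq2 : IsPullback (𝟙 _) ℓ (ℓ ≫ pullback.fst x P.hom) (pullback.fst x P.hom) :=
      IsPullback.of_horiz_isIso ⟨by rw [Category.id_comp]⟩
    exact ker_of_isPullback hsq2

end Hilb

end K496.FibOpen
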