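import Groth.Agent.S3218
import Groth.Agent.Fga.HilbFun
import Groth.Agent.Ega3A.PChart

/-!
# The Hilbert scheme of a closed subscheme of projective space over a field is locally of finite type

* `exists_iso`: two schemes representing the Hilbert functor are isomorphic.
* `locallyOfFiniteType`: a locally noetherian scheme representing the Hilbert functor of a closed subscheme of `P^n_k` is
  locally of finite type over `k`.
-/

set_option autoImplicit false
universe u
open CategoryTheory CategoryTheory.Limits AlgebraicGeometry TopologicalSpace Opposite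

namespace K496.HilbLft

open Groth.Agent.Fga.HilbFun Groth.Agent.Ega3A.PChart

theorem exists_iso {X S : Scheme.{u}} (f : X ⟶ S) {H H' : Over S} {Z : FGA.HilbSet f H} {Z' : FGA.HilbSet f H'}
    (hH : FGA.HilbRepresentedBy f H Z) (hH' : FGA.HilbRepresentedBy f H' Z') :
    ∃ e : H ≅ H', FGA.hilbPull f e.hom Z'.1 = Z.1 := by
  have := hH.1
  have := hH'.1
  obtain ⟨a, ha, -⟩ := hH'.2 H Z
  obtain ⟨b, hb, -⟩ := hH.2 H' Z'
  refine ⟨⟨a, b, ?_, ?_⟩, ha⟩
  · refine (hH.2 H Z).unique ?_ (hilbPull_id f H Z.1)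
    rw [hilbPull_comp, hb, ha]
  · refine (hH'.2 H' Z').unique ?_ (hilbPull_id f H' Z'.1)
    rw [hilbPull_comp, ha, hb]

theorem lft_of_pieces {S : Scheme.{u}} (H : Over S) (ι : Type u) (P : ι → Scheme.{u}) (e : (∐ P) ≅ H.left)
    (r : ι → ℕ) (c : ∀ a, P a ⟶ CohB1.ProjSpaceOver (r a) S)
    (hc : ∀ a, IsClosedImmersion (c a) ∧
          c a ≫ CohB1.ProjSpaceOver.toBase (r a) S = Limits.Sigma.ι P a ≫ e.hom ≫ H.hom) :
    LocallyOfFiniteType H.hom := by
  let q : ∀ a, P a ⟶ H.left := fun a => Limits.Sigma.ι P a ≫ e.hom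
  have hq : ∀ a, IsOpenImmersion (q a) := fun a => inferInstance
  have hcov : ∀ x, ∃ a y, q a y = x := by
    intro x
    obtain ⟨y, hy⟩ := (sigmaOpenCover P).covers (e.inv x)
    refine ⟨_, y, ?_⟩
    change e.hom (Limits.Sigma.ι P _ y) = x
    erw [hy]
    rw [← Scheme.Hom.comp_apply, e.inv_hom_id]
    rfl
  have hqs : ∀ a, q a ≫ H.hom = c a ≫ CohB1.ProjSpaceOver.toBase (r a) S := by
    intro a
    rw [(hc a).2, Category.assoc]
  let 𝒰 : Scheme.OpenCover.{u} H.left :=
    { I₀ := ι, X := P, f := q,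
      mem₀ := by rw [Scheme.presieve₀_mem_precoverage_iff]; exact ⟨hcov, hq⟩ }
  refine IsZariskiLocalAtSource.of_openCover (P := @LocallyOfFiniteType) 𝒰 fun a => ?_
  change LocallyOfFiniteType (q a ≫ H.hom)
  rw [hqs]
  have := (hc a).1
  infer_instance

theorem locallyOfFiniteType {k : Type u} [Field k] (n : ℕ) {X : Scheme.{u}} (i : X ⟶ CohB1.ProjSpace n k)
    [IsClosedImmersion i] (H : Over (Spec (CommRingCat.of k)))
    (Z : FGA.HilbSet (i ≫ CohB1.ProjSpace.toSpec n k) H)
    (hH : FGA.HilbRepresentedBy (i ≫ CohB1.ProjSpace.toSpec n k) H Z) : LocallyOfFiniteType H.hom := by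
  have hiso : IsIso (chart n (𝟙 (Spec (CommRingCat.of k)))) :=
    MorphismProperty.of_isPullback (P := MorphismProperty.isomorphisms Scheme)
      (isPullback_chart n (𝟙 (Spec (CommRingCat.of k)))).flip (MorphismProperty.isomorphisms.infer_property _)
  have e : (i ≫ chart n (𝟙 (Spec (CommRingCat.of k)))) ≫ CohB1.ProjSpaceOver.toBase n (Spec (CommRingCat.of k)) =
      i ≫ CohB1.ProjSpace.toSpec n k := by
    rw [Category.assoc, chart_toBase, Category.comp_id]
  have key := Groth.Agent.S3218.result (Spec (CommRingCat.of k)) n X (i ≫ chart n (𝟙 (Spec (CommRingCat.of k))))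
  rw [e] at key
  obtain ⟨H', Z', hH', ι, P, e', r, c, hc⟩ := key
  have h1 : LocallyOfFiniteType H'.hom := lft_of_pieces H' ι P e' r c hc
  obtain ⟨φ, -⟩ := exists_iso _ hH hH'
  have h2 : H.hom = φ.hom.left ≫ H'.hom := (Over.w φ.hom).symm
  rw [h2]
  have : IsIso φ.hom.left := inferInstance
  infer_instance

end K496.HilbLft
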