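import Groth.Agent.Fano.K715.QuintDef
import Groth.Agent.Fano.K496.HilbLft
import Groth.Agent.Fano.K496.FibOpen
import Groth.Agent.CurvSt.K903.EulerPt
import Groth.Agent.Ega3B.ChiFib
import Groth.Agent.Ega3B.PullTensor
import Groth.Agent.Ega3B.ProjTwist
import Groth.Agent.S1025
import Groth.Agent.S1026
import Mathlib.AlgebraicGeometry.AlgClosed.Basic

/-!
# The smooth connected curves of given genus and degree form the closed points of an open subset of the Hilbert scheme

* `fibOpen`, `mem_fibOpen_iff`: for a proper flat family `π : Y ⟶ S` and an invertible module `M` on `Y`, an open subset of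
  `S` such that a field point (over an algebraically closed field) is in it if and only if the fibre is a smooth integral
  curve of genus `g` on which `M` has degree `d`.
* `exists_open_curveSet`: the set `curveSet f H Z g d` consists of the closed points of an open subset, locally of
  finite type over the field.
-/

set_option autoImplicit false
universe u
open CategoryTheory CategoryTheory.Limits AlgebraicGeometry TopologicalSpace Opposite

namespace K496.OpenCurves

open Groth.Agent Groth.Agent.Lefpen.H704.RelLocus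

theorem lfp_of_noeth {X Y : Scheme.{u}} (f : X ⟶ Y)
    [IsLocallyNoetherian Y] [LocallyOfFiniteType f] : LocallyOfFinitePresentation f where
  finitePresentation_appLE {U} hU {V} hV e := by
    have : IsNoetherianRing Γ(Y, U) := IsLocallyNoetherian.component_noetherian ⟨U, hU⟩
    exact RingHom.FinitePresentation.of_finiteType.1 (f.finiteType_appLE hU hV e)

/-! ## Families of curves -/

section Family

variable {Y S : Scheme.{u}} (π : Y ⟶ S) [IsProper π] [Flat π] [LocallyOfFinitePresentation π] (M : Y.Modules)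

/-- The open subset of the base over which the fibres are curves of genus `g` on which `M` has degree `d`. -/
noncomputable def fibOpen (hM : PicF.IsInvertible M) (g : ℕ) (d : ℤ) : S.Opens :=
  goodOpen 1 π ⊓
  ⟨Set.range π, π.isOpenMap.isOpen_range⟩ ⊓
  ⟨{s : S | PerfAux.betti π (Coh.structureModule Y) s 0 < 2},
    Groth.Agent.S1025.result π _ PerfB.StructFlat.isFP_structure (PerfB.StructFlat.isFlatOver_structure π) 0 2⟩ ⊓
  ⟨{s : S | PerfAux.eulerChar π (Coh.structureModule Y) s = 1 - (g : ℤ)},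
    (Groth.Agent.S1026.result π _ PerfB.StructFlat.isFP_structure
      (PerfB.StructFlat.isFlatOver_structure π)).isOpen_fiber _⟩ ⊓
  ⟨{s : S | PerfAux.eulerChar π M s = d + (1 - (g : ℤ))},
    (Groth.Agent.S1026.result π _ (Ega3B.ChiFib.isFP_of_isInvertible hM)
      (Ega3B.ChiFib.isFlatOver_of_isInvertible π hM)).isOpen_fiber _⟩

/-- The Euler characteristic of the structure sheaf of a curve. -/
theorem euler_eq (k : Type u) [Field k] (C : Scheme.{u}) [C.Over (Spec (CommRingCat.of k))]
    [IsProper (C ↘ (Spec (CommRingCat.of k)))] (hdim : topologicalKrullDim C = 1) :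
    Curv2.euler k C (Coh.structureModule C) =
      (Module.finrank k (Coh.HH C (Coh.structureModule C) 0) : ℤ) - (Curv2.genus k C : ℤ) := by
  have h1 : IsLocallyNoetherian C :=
    LocallyOfFiniteType.isLocallyNoetherian (C ↘ (Spec (CommRingCat.of k)))
  have h2 : CompactSpace C :=
    QuasiCompact.compactSpace_of_compactSpace (C ↘ (Spec (CommRingCat.of k)))
  have : IsNoetherian C := { }
  unfold Curv2.euler Curv2.genus
  rw [finsum_eq_sum_of_support_subset (s := Finset.range 2)]
  · rw [Finset.sum_range_succ, Finset.sum_range_one]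
    simp [sub_eq_add_neg]
  · intro n hn
    by_contra hc
    have h3 : 2 ≤ n := by
      have h5 : ¬ n < 2 := by simpa using hc
      omega
    have h4 : Subsingleton (Coh.HH C (Coh.structureModule C) n) :=
      Groth.Agent.S0458.result 1 hdim.le (Coh.toAb (Coh.structureModule C)) n (by omega)
    apply hn
    have h5 : Module.finrank k (Coh.HH C (Coh.structureModule C) n) = 0 := Module.finrank_zero_of_subsingleton
    simp only [h5, Nat.cast_zero, mul_zero]

theorem mem_fibOpen_iff (hM : PicF.IsInvertible M) (g : ℕ) (d : ℤ) {k : Type u} [Field k] [IsAlgClosed k]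
    {C : Scheme.{u}} {a : C ⟶ Y} {p : C ⟶ Spec (CommRingCat.of k)} {t : Spec (CommRingCat.of k) ⟶ S}
    (h : IsPullback a p π t) :
    t (IsLocalRing.closedPoint k) ∈ fibOpen π M hM g d ↔
      Smooth p ∧ IsIntegral C ∧ topologicalKrullDim C = 1 ∧ @Curv2.genus k _ C ⟨p⟩ = g ∧
        @Curv2.deg k _ C ⟨p⟩ ((Scheme.Modules.pullback a).obj M) 1 = d := by
  let _ : C.Over (Spec (CommRingCat.of k)) := ⟨p⟩
  have hp : IsProper p := MorphismProperty.of_isPullback (P := @IsProper) h inferInstance
  have hp' : IsProper (C ↘ (Spec (CommRingCat.of k))) := hp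
  have hO : Curv2.euler k C (Coh.structureModule C) =
      PerfAux.eulerChar π (Coh.structureModule Y) (t (IsLocalRing.closedPoint k)) := by
    unfold Curv2.euler PerfAux.eulerChar
    refine finsum_congr fun i => ?_
    rw [Pi1.H536.GenusFam.finrank_eq_betti π k t (IsLocalRing.closedPoint k) a h i]
  have hMe : Curv2.euler k C ((Scheme.Modules.pullback a).obj M) =
      PerfAux.eulerChar π M (t (IsLocalRing.closedPoint k)) :=
    K903.EulerPt.euler_pull p π t a h M (Ega2.QCohLocal.isQCoh_of_isInvertible hM)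
  have h0 := Pi1.H536.GenusFam.finrank_eq_betti π k t (IsLocalRing.closedPoint k) a h 0
  constructor
  · rintro ⟨⟨⟨⟨m1, m2⟩, m3⟩, m4⟩, m5⟩
    have m3' : PerfAux.betti π (Coh.structureModule Y) (t (IsLocalRing.closedPoint k)) 0 < 2 := m3
    have m4' : PerfAux.eulerChar π (Coh.structureModule Y) (t (IsLocalRing.closedPoint k)) = 1 - (g : ℤ) := m4
    have m5' : PerfAux.eulerChar π M (t (IsLocalRing.closedPoint k)) = d + (1 - (g : ℤ)) := m5
    have hs1 : SmoothOfRelativeDimension 1 p := FibOpen.smooth_of_mem_goodOpen π h 1 m1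
    have hs : Smooth p := SmoothOfRelativeDimension.smooth 1 p
    obtain ⟨y, hy⟩ := m2
    obtain ⟨c, -⟩ := FibOpen.exists_of_apply π h y hy
    have hne : Nonempty C := ⟨c⟩
    have h00 := Pi1.H536.GenusFam.one_le_finrank k C
    have h01 : Module.finrank k (Coh.HH C (Coh.structureModule C) 0) = 1 := by omega
    have hconn : ConnectedSpace C := Pi1.H536.CurveFam.connectedSpace_of_h0 k C h01
    have hint : IsIntegral C := Pi1.H536.CurveFam.isIntegral_of_smooth k p
    have hdim : topologicalKrullDim C = 1 := by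
      have := Pi1.H536.CurveFam.topologicalKrullDim_eq k p 1
      simpa using this
    have he := euler_eq k C hdim
    refine ⟨hs, hint, hdim, ?_, ?_⟩
    · have hg : (Curv2.genus k C : ℤ) = g := by
        rw [hO, m4', h01] at he
        push_cast at he
        omega
      exact_mod_cast hg
    · unfold Curv2.deg
      rw [hMe, hO, m4', m5']
      ring
  · rintro ⟨hs, hint, hdim, hg, hd⟩
    have hs1 : SmoothOfRelativeDimension 1 p :=
      Pi1.H536.CurveFam.smoothOfRelativeDimension_of_dim k p 1 (by simpa using hdim)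
    have hgc : GeometricallyConnected (C ↘ (Spec (CommRingCat.of k))) :=
      Pi1.H385.GeomConnAC.geometricallyConnected k _
    have hs' : Smooth (C ↘ (Spec (CommRingCat.of k))) := hs
    obtain ⟨h01, -⟩ := Pi1.H536.CurveFam.curve_cohomology k C hdim
    have he := euler_eq k C hdim
    have hgg : Curv2.genus k C = g := hg
    have m4 : PerfAux.eulerChar π (Coh.structureModule Y) (t (IsLocalRing.closedPoint k)) = 1 - (g : ℤ) := by
      rw [← hO, he, h01, hgg]
      push_cast
      ring
    refine ⟨⟨⟨⟨FibOpen.mem_goodOpen_of_smooth π h 1, ?_⟩, ?_⟩, m4⟩, ?_⟩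
    · obtain ⟨c⟩ : Nonempty C := inferInstance
      exact ⟨a c, FibOpen.apply_eq π h c⟩
    · change PerfAux.betti π (Coh.structureModule Y) (t (IsLocalRing.closedPoint k)) 0 < 2
      omega
    · change PerfAux.eulerChar π M (t (IsLocalRing.closedPoint k)) = d + (1 - (g : ℤ))
      have hdd : Curv2.deg k C ((Scheme.Modules.pullback a).obj M) 1 = d := hd
      unfold Curv2.deg at hdd
      rw [hMe, hO, m4] at hdd
      push_cast at hdd
      omega

end Family

/-! ## The Hilbert scheme -/

section Hilb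

variable {k : Type u} [Field k] [IsAlgClosed k] {X : Scheme.{u}} (x : X ⟶ Spec (CommRingCat.of k)) (L : X.Modules)
  (H : Over (Spec (CommRingCat.of k))) (Z : FGA.HilbSet x H)

/-- The points of the Hilbert scheme given by smooth connected curves of genus `g` on which `L` has degree `d`. -/
def curves (g : ℕ) (d : ℤ) : Set ↥H.left :=
  {y | ∃ (h : Over.mk (𝟙 (Spec (CommRingCat.of k))) ⟶ H) (C : Scheme.{u}) (p : C ⟶ Spec (CommRingCat.of k))
      (i : C ⟶ X),
      y = h.left.base (IsLocalRing.closedPoint k) ∧ IsClosedImmersion i ∧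
      i ≫ x = p ∧
      Smooth p ∧ IsProper p ∧ IsIntegral C ∧ topologicalKrullDim C = 1 ∧
      @Curv2.genus k _ C ⟨p⟩ = g ∧
      @Curv2.deg k _ C ⟨p⟩ ((Scheme.Modules.pullback i).obj L) 1 = d ∧
      FGA.hilbPull x h Z.1 =
        i.ker.comap (pullback.fst x (Over.mk (𝟙 (Spec (CommRingCat.of k)))).hom)}

omit [IsAlgClosed k] in
theorem deg_congr {C : Scheme.{u}} (p : C ⟶ Spec (CommRingCat.of k)) {M N : C.Modules} (e : M ≅ N) :
    @Curv2.deg k _ C ⟨p⟩ M 1 = @Curv2.deg k _ C ⟨p⟩ N 1 := by
  unfold Curv2.deg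
  rw [K903.EulerPt.euler_congr' p e]

theorem exists_open_curves (hL : PicF.IsInvertible L) [IsLocallyNoetherian H.left] [LocallyOfFiniteType H.hom]
    (g : ℕ) (d : ℤ) :
    ∃ A : H.left.Opens, LocallyOfFiniteType (A.ι ≫ H.hom) ∧
      ∀ y : ↥H.left, y ∈ curves x L H Z g d ↔ y ∈ A ∧ IsClosed ({y} : Set ↥H.left) := by
  let π : Z.1.subscheme ⟶ H.left := Z.1.subschemeι ≫ PicF.XTproj x H
  have hπ1 : IsProper π := Z.2.1
  have hπ2 : Flat π := Z.2.2
  have hπ3 : LocallyOfFinitePresentation π := lfp_of_noeth π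
  let M : (Z.1.subscheme).Modules := (Scheme.Modules.pullback (Z.1.subschemeι ≫ pullback.fst x H.hom)).obj L
  have hM : PicF.IsInvertible M := Fdesc.LocGen.isInvertible_pullback _ hL
  have hiso : ∀ {C : Scheme.{u}} (a : C ⟶ Z.1.subscheme) (i : C ⟶ X),
      a ≫ Z.1.subschemeι ≫ pullback.fst x H.hom = i →
        Nonempty ((Scheme.Modules.pullback a).obj M ≅ (Scheme.Modules.pullback i).obj L) := by
    intro C a i hai
    exact ⟨(Scheme.Modules.pullbackComp a _).app L ≪≫ (Scheme.Modules.pullbackCongr hai).app L⟩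
  refine ⟨fibOpen π M hM g d, inferInstance, fun y => ⟨?_, ?_⟩⟩
  · rintro ⟨h, C, p, i, rfl, hi, rfl, hs, hp, hint, hdim, hg, hd, he⟩
    obtain ⟨a, ha, hai⟩ := FibOpen.isPullback_of_hilbPull x Z.1 h i he
    obtain ⟨e⟩ := hiso a i hai
    refine ⟨(mem_fibOpen_iff π M hM g d ha).2 ⟨hs, hint, hdim, hg, ?_⟩, ?_⟩
    · rw [deg_congr (i ≫ x) e]
      exact hd
    · exact (pointEquivClosedPoint H.hom ⟨h.left, Over.w h⟩).2
  · rintro ⟨hy, hcl⟩
    let h : Over.mk (𝟙 (Spec (CommRingCat.of k))) ⟶ H :=
      Over.homMk (pointOfClosedPoint H.hom y hcl) (pointOfClosedPoint_comp H.hom y hcl)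
    have hh : h.left (IsLocalRing.closedPoint k) = y := pointOfClosedPoint_apply H.hom y hcl _
    obtain ⟨C, i, a, hi, ha, hai, he⟩ := FibOpen.exists_of_point x Z.1 h
    obtain ⟨e⟩ := hiso a i hai
    have h1 : h.left (IsLocalRing.closedPoint k) ∈ fibOpen π M hM g d := by rwa [hh]
    obtain ⟨hs, hint, hdim, hg, hd⟩ := (mem_fibOpen_iff π M hM g d ha).1 h1
    have hp : IsProper (i ≫ x) := MorphismProperty.of_isPullback (P := @IsProper) ha hπ1
    refine ⟨h, C, i ≫ x, i, hh.symm, hi, rfl, hs, hp, hint, hdim, hg, ?_, he⟩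
    rw [← deg_congr (i ≫ x) e]
    exact hd

end Hilb

/-! ## Curves on a cubic threefold -/

open Groth.Agent.Fano.K714.Rat Groth.Agent.Fano.K714.Quart Groth.Agent.Fano.K715.Quint

variable {k : Type u} [Field k] [IsAlgClosed k] [CharZero k]

omit [CharZero k] in
theorem curveSet_eq (f : LefPen.Form 4 k 3) (H : Over (Spec (CommRingCat.of k))) (Z : FGA.HilbSet (ps f) H) (g : ℕ)
    (d : ℤ) :
    curveSet f H Z g d = curves (ps f) ((Scheme.Modules.pullback (emb f)).obj (Twist.twistProjSpace 4 k 1)) H Z g d := by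
  have key : ∀ {C : Scheme.{u}} (p : C ⟶ Spec (CommRingCat.of k)) (i : C ⟶ Xf f),
      @Curv2.deg k _ C ⟨p⟩ ((Scheme.Modules.pullback (i ≫ (LefPen.hypIdeal f).subschemeι)).obj
        (Twist.twistProjSpace 4 k 1)) 1 =
      @Curv2.deg k _ C ⟨p⟩ ((Scheme.Modules.pullback i).obj
        ((Scheme.Modules.pullback (emb f)).obj (Twist.twistProjSpace 4 k 1))) 1 := fun p i =>
    deg_congr p ((Scheme.Modules.pullbackComp i (emb f)).app _).symm
  ext y
  constructor
  · rintro ⟨h, C, p, i, h1, h2, h3, h4, h5, h6, h7, h8, h9, h10⟩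
    exact ⟨h, C, p, i, h1, h2, h3, h4, h5, h6, h7, h8, (key p i).symm.trans h9, h10⟩
  · rintro ⟨h, C, p, i, h1, h2, h3, h4, h5, h6, h7, h8, h9, h10⟩
    exact ⟨h, C, p, i, h1, h2, h3, h4, h5, h6, h7, h8, (key p i).trans h9, h10⟩

theorem exists_open_curveSet (f : LefPen.Form 4 k 3) (hf : f ≠ 0) [Smooth (ps f)]
    (H : Over (Spec (CommRingCat.of k))) (Z : FGA.HilbSet (ps f) H)
    (hH : FGA.HilbRepresentedBy (ps f) H Z) (g : ℕ) (d : ℤ) :
    ∃ A : H.left.Opens, LocallyOfFiniteType (A.ι ≫ H.hom) ∧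
      ∀ x : ↥H.left, x ∈ curveSet f H Z g d ↔ x ∈ A ∧ IsClosed ({x} : Set ↥H.left) := by
  have h1 : LocallyOfFiniteType H.hom := HilbLft.locallyOfFiniteType 4 (emb f) H Z hH
  have h2 : IsLocallyNoetherian H.left := hH.1
  rw [curveSet_eq]
  exact exists_open_curves (ps f) _ H Z
    (Fdesc.LocGen.isInvertible_pullback _ (Ega3B.ProjTwist.isInvertible_twistProjSpace 4 k 1)) g d

end K496.OpenCurves
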