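import Groth.Agent.Fano.K713.BinFactor
import Groth.Agent.Fano.K798.TwBin
import Mathlib.RingTheory.MvPolynomial.EulerIdentity

/-!
# Binary forms: divisibility, vectors of binary forms without common zeros, Wronskians, trilinear forms

* `dvd_of_prim`, `exists_mul_of_prim`: a vector of binary forms proportional to a vector `D` without common zeros is a
  multiple of `D`;
* `dep_of_wronskian`: two forms of the same degree with vanishing Jacobian are proportional;
* `tri τ x y z`: the trilinear form with coefficients `τ` on vectors of binary forms.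
-/

set_option autoImplicit false

namespace K496.BinAlg

open MvPolynomial K713.BinFactor

variable {k : Type*} [Field k]

section Basic

theorem prime_lin {P : Fin 2 → k} (hP : P ≠ 0) : Prime (lin P) := (irreducible_lin hP).prime

theorem eval_lin_self (P : Fin 2 → k) : eval P (lin P) = 0 := by rw [eval_lin]; ring

theorem lin_mul_factor {A B : MvPolynomial (Fin 2) k} {P : Fin 2 → k} {n : ℕ} (hA : A.IsHomogeneous (n + 1))
    (hP : P ≠ 0) (h : A = lin P * B) : B.IsHomogeneous n := by
  by_cases hA0 : A = 0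
  · have : B = 0 := by
      rw [hA0] at h
      exact (mul_eq_zero.1 h.symm).resolve_left (lin_ne_zero hP)
    rw [this]
    exact isHomogeneous_zero _ _ _
  · rw [h] at hA hA0
    obtain ⟨a, b, hab, ha, hb⟩ := K713.HomFactor.exists_isHomogeneous hA hA0
    have h3 : a = 1 := ha.inj_right (isHomogeneous_lin P) (lin_ne_zero hP)
    have h4 : b = n := by omega
    rwa [h4] at hb

/-- The cofactor of a homogeneous factor. -/
theorem hom_of_mul {A B : MvPolynomial (Fin 2) k} {a n : ℕ} (hA : A.IsHomogeneous a) (hA0 : A ≠ 0)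
    (hAB : (A * B).IsHomogeneous n) : B = 0 ∨ ∃ b, n = a + b ∧ B.IsHomogeneous b := by
  by_cases hB : B = 0
  · exact Or.inl hB
  · right
    obtain ⟨a', b', hab, ha, hb⟩ := K713.HomFactor.exists_isHomogeneous hAB (mul_ne_zero hA0 hB)
    have h3 : a' = a := ha.inj_right hA hA0
    subst h3
    exact ⟨b', hab.symm, hb⟩

theorem hom_of_mul' {A B : MvPolynomial (Fin 2) k} {a b n : ℕ} (hA : A.IsHomogeneous a) (hA0 : A ≠ 0)
    (hAB : (A * B).IsHomogeneous n) (h : n = a + b) : B.IsHomogeneous b := by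
  rcases hom_of_mul hA hA0 hAB with rfl | ⟨b', hb', hB⟩
  · exact isHomogeneous_zero _ _ _
  · have : b' = b := by omega
    rwa [this] at hB

theorem eq_zero_of_mul_lt {A B : MvPolynomial (Fin 2) k} {a n : ℕ} (hA : A.IsHomogeneous a) (hA0 : A ≠ 0)
    (hAB : (A * B).IsHomogeneous n) (h : n < a) : B = 0 := by
  rcases hom_of_mul hA hA0 hAB with h | ⟨b, hb, -⟩
  · exact h
  · omega

theorem eq_C_of_isHomogeneous_zero {A : MvPolynomial (Fin 2) k} (hA : A.IsHomogeneous 0) : ∃ κ : k, A = C κ := by
  rw [← totalDegree_zero_iff_isHomogeneous, totalDegree_eq_zero_iff_eq_C] at hA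
  exact ⟨_, hA⟩

/-- Euler's identity in two variables. -/
theorem euler {A : MvPolynomial (Fin 2) k} {n : ℕ} (hA : A.IsHomogeneous n) :
    X 0 * pderiv 0 A + X 1 * pderiv 1 A = (n : MvPolynomial (Fin 2) k) * A := by
  have h := hA.sum_X_mul_pderiv
  rw [Fin.sum_univ_two, nsmul_eq_mul] at h
  exact h

theorem isHomogeneous_pderiv {A : MvPolynomial (Fin 2) k} {n : ℕ} (hA : A.IsHomogeneous (n + 1)) (i : Fin 2) :
    (pderiv i A).IsHomogeneous n := by
  have := hA.pderiv (i := i)
  simpa using this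

end Basic

section Div

variable [IsAlgClosed k]

theorem exists_lin_mul {A : MvPolynomial (Fin 2) k} {n : ℕ} (hA : A.IsHomogeneous (n + 1)) {P : Fin 2 → k}
    (hP : P ≠ 0) (h : eval P A = 0) : ∃ B : MvPolynomial (Fin 2) k, B.IsHomogeneous n ∧ A = lin P * B := by
  obtain ⟨B, hB⟩ := lin_dvd hA hP h
  exact ⟨B, lin_mul_factor hA hP hB, hB⟩

theorem exists_zero {A : MvPolynomial (Fin 2) k} {n : ℕ} (hA : A.IsHomogeneous (n + 1)) :
    ∃ P : Fin 2 → k, P ≠ 0 ∧ eval P A = 0 := K713.Binary.exists_zero hA (Nat.succ_pos n)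

theorem dvd_of_prim {ι : Type*} (n : ℕ) : ∀ {A B : MvPolynomial (Fin 2) k} {b : ℕ} (_ : A.IsHomogeneous n) (_ : A ≠ 0)
    (_ : B.IsHomogeneous b) {D v : ι → MvPolynomial (Fin 2) k} (_ : ∀ i, A * v i = B * D i)
    (_ : ∀ P : Fin 2 → k, P ≠ 0 → ∃ i, eval P (D i) ≠ 0), A ∣ B := by
  induction n with
  | zero =>
    intro A B b hA hA0 _ D v _ _
    exact (K713.Binary.isUnit_of_isHomogeneous_zero hA hA0).dvd
  | succ n ih =>
    intro A B b hA hA0 hB D v h hD
    obtain ⟨P, hP, hPA⟩ := exists_zero hA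
    obtain ⟨A', hA', rfl⟩ := exists_lin_mul hA hP hPA
    have hA'0 : A' ≠ 0 := right_ne_zero_of_mul hA0
    have hPB : eval P B = 0 := by
      obtain ⟨i, hi⟩ := hD P hP
      have h1 := congrArg (eval P) (h i)
      rw [map_mul, hPA, zero_mul, map_mul] at h1
      exact (mul_eq_zero.1 h1.symm).resolve_right hi
    obtain ⟨B', rfl⟩ := lin_dvd hB hP hPB
    rcases hom_of_mul (isHomogeneous_lin P) (lin_ne_zero hP) hB with rfl | ⟨b', -, hB'⟩
    · simp
    · refine mul_dvd_mul_left _ (ih hA' hA'0 hB' (D := D) (v := v) (fun i => ?_) hD)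
      apply mul_left_cancel₀ (lin_ne_zero hP)
      rw [← mul_assoc, h i, mul_assoc]

theorem exists_mul_of_prim {ι : Type*} {n n' : ℕ} {D v : ι → MvPolynomial (Fin 2) k} (hDh : ∀ i, (D i).IsHomogeneous n)
    (hvh : ∀ i, (v i).IsHomogeneous n') (h : ∀ i j, v i * D j = v j * D i)
    (hD : ∀ P : Fin 2 → k, P ≠ 0 → ∃ i, eval P (D i) ≠ 0) :
    (∀ i, v i = 0) ∨ ∃ (e : ℕ) (g : MvPolynomial (Fin 2) k), n' = n + e ∧ g.IsHomogeneous e ∧ g ≠ 0 ∧
      ∀ i, v i = g * D i := by
  obtain ⟨j, hj⟩ := hD (fun _ => 1) (fun h => one_ne_zero (congrFun h 0))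
  have hj0 : D j ≠ 0 := by
    intro h0
    rw [h0, map_zero] at hj
    exact hj rfl
  obtain ⟨g, hg⟩ : D j ∣ v j := dvd_of_prim n (hDh j) hj0 (hvh j) (D := D) (v := v)
    (fun i => by rw [mul_comm, h i j]) hD
  have hv : ∀ i, v i = g * D i := by
    intro i
    apply mul_left_cancel₀ hj0
    have h1 := h i j
    rw [hg] at h1
    linear_combination h1
  by_cases hg0 : g = 0
  · left
    intro i
    rw [hv i, hg0, zero_mul]
  · right
    have h1 := hvh j
    rw [hg] at h1
    rcases hom_of_mul (hDh j) hj0 h1 with h2 | ⟨e, he, hge⟩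
    · exact absurd h2 hg0
    · exact ⟨e, g, he, hge, hg0, hv⟩

/-- A form of degree `< n` with `n` zeros vanishes. -/
theorem eq_zero_of_zeros (n : ℕ) : ∀ {A : MvPolynomial (Fin 2) k} {m : ℕ} (_ : A.IsHomogeneous m) (_ : m < n)
    (P : Fin n → Fin 2 → k) (_ : ∀ i j, i ≠ j → P i 0 * P j 1 - P i 1 * P j 0 ≠ 0) (_ : ∀ i, P i ≠ 0)
    (_ : ∀ i, eval (P i) A = 0), A = 0 := by
  induction n with
  | zero => intro A m _ h; exact absurd h (Nat.not_lt_zero _)
  | succ n ih =>
    intro A m hA hm P hP hP0 h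
    by_contra hA0
    rcases m with _ | m
    · obtain ⟨κ, rfl⟩ := eq_C_of_isHomogeneous_zero hA
      have := h 0
      rw [eval_C] at this
      exact hA0 (by rw [this, map_zero])
    · obtain ⟨B, hB, rfl⟩ := exists_lin_mul hA (hP0 0) (h 0)
      apply hA0
      rw [ih hB (by omega) (fun i => P i.succ) (fun i j hij => hP _ _ (by simpa using hij)) (fun i => hP0 _)
        (fun i => ?_), mul_zero]
      have h1 := h i.succ
      rw [map_mul, eval_lin] at h1
      refine (mul_eq_zero.1 h1).resolve_left fun h2 => hP 0 i.succ (Fin.succ_ne_zero i).symm ?_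
      linear_combination -h2

/-- A form whose only zero is `P` is a power of the linear form of `P`. -/
theorem exists_eq_pow (n : ℕ) : ∀ {A : MvPolynomial (Fin 2) k} (_ : A.IsHomogeneous n) {P : Fin 2 → k} (_ : P ≠ 0)
    (_ : ∀ Q : Fin 2 → k, P 0 * Q 1 - P 1 * Q 0 ≠ 0 → eval Q A ≠ 0), ∃ κ : k, A = C κ * lin P ^ n := by
  induction n with
  | zero =>
    intro A hA P _ _
    obtain ⟨κ, rfl⟩ := eq_C_of_isHomogeneous_zero hA
    exact ⟨κ, by simp⟩
  | succ n ih =>
    intro A hA P hP h
    obtain ⟨Q, hQ, hQA⟩ := exists_zero hA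
    have hPA : eval P A = 0 := by
      by_contra hPA
      have h1 : P 0 * Q 1 - P 1 * Q 0 = 0 := by
        by_contra h2
        exact h Q h2 hQA
      obtain ⟨t, ht⟩ := exists_smul_of_eval_lin hP (x := Q) (by rw [eval_lin]; linear_combination -h1)
      rw [ht, eval_smul_of_isHomogeneous hA] at hQA
      have ht0 : t ≠ 0 := by
        rintro rfl
        rw [zero_smul] at ht
        exact hQ ht
      exact (mul_ne_zero (pow_ne_zero _ ht0) hPA) hQA
    obtain ⟨B, hB, rfl⟩ := exists_lin_mul hA hP hPA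
    obtain ⟨κ, rfl⟩ := ih hB hP fun Q hQ hQB => h Q hQ (by rw [map_mul, hQB, mul_zero])
    exact ⟨κ, by rw [pow_succ]; ring⟩

/-- Two forms of the same positive degree with vanishing Jacobian are proportional. -/
theorem dep_of_wronskian [CharZero k] {A B : MvPolynomial (Fin 2) k} {n : ℕ} (hA : A.IsHomogeneous (n + 1))
    (hB : B.IsHomogeneous (n + 1)) (h : pderiv 0 A * pderiv 1 B - pderiv 1 A * pderiv 0 B = 0) :
    ∃ x y : k, (x ≠ 0 ∨ y ≠ 0) ∧ C x * A + C y * B = 0 := by
  by_cases hB0 : B = 0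
  · exact ⟨0, 1, Or.inr one_ne_zero, by rw [hB0, map_zero, zero_mul, mul_zero, add_zero]⟩
  have : Infinite k := IsAlgClosed.instInfinite
  obtain ⟨P, hP, hPB⟩ : ∃ P : Fin 2 → k, P ≠ 0 ∧ eval P B ≠ 0 := by
    by_contra hcon
    push Not at hcon
    apply hB0
    refine MvPolynomial.funext fun x => ?_
    rw [map_zero]
    by_cases hx : x = 0
    · subst hx
      have h1 := eval_smul_of_isHomogeneous hB (0 : k) 0
      rwa [zero_smul, zero_pow (Nat.succ_ne_zero n), zero_mul] at h1
    · exact hcon x hx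
  let μ : k := - (eval P A / eval P B)
  refine ⟨1, μ, Or.inl one_ne_zero, ?_⟩
  -- the combination vanishing at `P`
  let E : MvPolynomial (Fin 2) k := A + C μ * B
  have hE : E.IsHomogeneous (n + 1) := hA.add (by simpa using (isHomogeneous_C (Fin 2) μ).mul hB)
  have hEP : eval P E = 0 := by
    simp only [E, μ, map_add, map_mul, eval_C]
    field_simp
    ring
  have hwE : pderiv 0 E * pderiv 1 B - pderiv 1 E * pderiv 0 B = 0 := by
    simp only [E, map_add, pderiv_C_mul, smul_eq_C_mul]
    linear_combination h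
  have hn : ((n + 1 : ℕ) : MvPolynomial (Fin 2) k) ≠ 0 := Nat.cast_ne_zero.2 (Nat.succ_ne_zero n)
  have e1 := euler hE
  have e2 := euler hB
  have h0 : pderiv 0 E * B = E * pderiv 0 B := by
    apply mul_left_cancel₀ hn
    linear_combination (-pderiv 0 E) * e2 + pderiv 0 B * e1 + X 1 * hwE
  have h1 : pderiv 1 E * B = E * pderiv 1 B := by
    apply mul_left_cancel₀ hn
    linear_combination (-pderiv 1 E) * e2 + pderiv 1 B * e1 - X 0 * hwE
  -- all powers of `lin P` divide `E`
  have hdvd : ∀ r : ℕ, lin P ^ r ∣ E := by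
    intro r
    induction r with
    | zero => simp
    | succ r ih =>
      obtain ⟨E', hE'⟩ := ih
      rcases r with _ | r
      · rw [zero_add, pow_one]
        exact lin_dvd hE hP hEP
      have hl0 : lin P ≠ 0 := lin_ne_zero hP
      have key : ∀ i, pderiv i E * B = E * pderiv i B → lin P ∣ pderiv i (lin P) * E' * B := by
        intro i hi
        rw [hE', pderiv_mul, pderiv_pow] at hi
        have h3 : lin P ^ r * (((r + 1 : ℕ) : MvPolynomial (Fin 2) k) * pderiv i (lin P) * E' * B) =
            lin P ^ r * (lin P * (E' * pderiv i B - pderiv i E' * B)) := by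
          simp only [Nat.add_sub_cancel] at hi
          rw [pow_succ] at hi
          linear_combination hi
        have h4 := mul_left_cancel₀ (pow_ne_zero r hl0) h3
        have h5 : lin P ∣ ((r + 1 : ℕ) : MvPolynomial (Fin 2) k) * (pderiv i (lin P) * E' * B) :=
          ⟨_, by rw [← h4]; ring⟩
        rcases (prime_lin hP).dvd_or_dvd h5 with h6 | h6
        · exfalso
          have h7 : IsUnit (((r + 1 : ℕ) : MvPolynomial (Fin 2) k)) := by
            have h8 : (((r + 1 : ℕ) : MvPolynomial (Fin 2) k)) = C (((r + 1 : ℕ) : k)) := by simp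
            rw [h8]
            exact (isUnit_iff_ne_zero.2 (Nat.cast_ne_zero.2 (Nat.succ_ne_zero r))).map C
          exact (prime_lin hP).not_isUnit (isUnit_of_dvd_unit h6 h7)
        · exact h6
      have hBP : ¬ lin P ∣ B := by
        rintro ⟨B', rfl⟩
        rw [map_mul, eval_lin_self, zero_mul] at hPB
        exact hPB rfl
      have hE'P : lin P ∣ E' := by
        obtain ⟨i, hi⟩ : ∃ i, ¬ lin P ∣ pderiv i (lin P) := by
          have d0 : pderiv 0 (lin P) = C (P 1) := by
            simp [lin, pderiv_X, Pi.single_apply]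
          have d1 : pderiv 1 (lin P) = C (- P 0) := by
            simp [lin, pderiv_X, Pi.single_apply]
          by_contra hcon
          push Not at hcon
          apply hP
          have hc : ∀ z : k, lin P ∣ C z → z = 0 := by
            intro z hz
            by_contra hz0
            exact (prime_lin hP).not_isUnit (isUnit_of_dvd_unit hz ((isUnit_iff_ne_zero.2 hz0).map C))
          have c0 := hcon 0
          have c1 := hcon 1
          rw [d0] at c0
          rw [d1] at c1
          ext i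
          fin_cases i
          · exact neg_eq_zero.1 (hc _ c1)
          · exact hc _ c0
        have h6 := key i (by fin_cases i; exacts [h0, h1])
        rcases (prime_lin hP).dvd_or_dvd h6 with h7 | h7
        · exact ((prime_lin hP).dvd_or_dvd h7).resolve_left hi
        · exact absurd h7 hBP
      obtain ⟨E'', hE''⟩ := hE'P
      exact ⟨E'', by rw [hE', hE'']; ring⟩
  have hE0 : E = 0 := by
    by_contra hE0
    obtain ⟨E', hE'⟩ := hdvd (n + 2)
    have h3 : (lin P ^ (n + 2)).IsHomogeneous (n + 2) := by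
      simpa using (isHomogeneous_lin P).pow (n + 2)
    have h4 := eq_zero_of_mul_lt h3 (pow_ne_zero _ (lin_ne_zero hP)) (hE' ▸ hE) (by omega)
    rw [h4, mul_zero] at hE'
    exact hE0 hE'
  rw [map_one, one_mul]
  exact hE0

end Div

end K496.BinAlg
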