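import Groth.Agent.Fano.K496.QuintDat
import Groth.Agent.Fano.K475.ConHom

/-!
# PLAN (sorried, never import in a shipped proof): smooth rational quintics on cubic threefolds are unobstructed
-/

set_option autoImplicit false
universe u

open CategoryTheory AlgebraicGeometry Limits TopologicalSpace Opposite

namespace K496.PlanQ5

open MvPolynomial K713.BinFactor K496.BinAlg K496.QuintDat

section Alg

variable {k : Type*} [Field k] [IsAlgClosed k] [CharZero k]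

/-- Q5-1 -/
theorem caseI {τ : Fin 4 → Fin 4 → Fin 4 → k} {c : Fin 4 → MvPolynomial (Fin 2) k} {u : MvPolynomial (Fin 2) k}
    (D : Dat τ c ![X 0 ^ 3, X 0 ^ 2 * X 1, X 0 * X 1 ^ 2, X 1 ^ 3] u 3) : False := by
  sorry

/-- Q5-2 -/
theorem caseII {τ : Fin 4 → Fin 4 → Fin 4 → k} {c γ : Fin 4 → MvPolynomial (Fin 2) k} {u : MvPolynomial (Fin 2) k}
    {m : ℕ} (D : Dat τ c γ u m) (h3 : γ 3 = 0) (hli : LinearIndependent k ![γ 0, γ 1, γ 2]) : False := by
  sorry

/-- Q5-3 -/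
theorem planar {c : Fin 3 → MvPolynomial (Fin 2) k} (hc : ∀ a, (c a).IsHomogeneous 5) (emb : Emb c)
    {τ : Fin 3 → Fin 3 → Fin 3 → k} (symm₁ : ∀ a b d, τ a b d = τ b a d) (symm₂ : ∀ a b d, τ a b d = τ a d b)
    (h : ∀ a, tri τ c c (Pi.single a 1) = 0) (a b d : Fin 3) : τ a b d = 0 := by
  sorry

/-- Q5-4 -/
theorem nondeg {c : Fin 5 → MvPolynomial (Fin 2) k} (hc : ∀ a, (c a).IsHomogeneous 5) (hli : LinearIndependent k c)
    {m : ℕ} (hm : m ≤ 3) {v : Fin 5 → Fin 5 → MvPolynomial (Fin 2) k} (hv : ∀ a b, (v a b).IsHomogeneous m)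
    {p g : Fin 5 → MvPolynomial (Fin 2) k} {u : MvPolynomial (Fin 2) k}
    (hpg : ∀ a b, p b * g a - p a * g b = u * v a b) (hne : ∃ a b, u * v a b ≠ 0)
    (hp : ∀ i, ∑ a, p a * pderiv i (c a) = 0) (hg : ∀ i, ∑ a, g a * pderiv i (c a) = 0) : False := by
  sorry

end Alg

section Sheaf

open LefPen Groth.Agent.Fano.K714.Rat K475.ConForm

variable {k : Type u} [Field k]

/-- Q5-5 -/
theorem exists_der (f : LefPen.Form 4 k 3) (i : CohB1.ProjSpace 1 k ⟶ Xf f) [IsClosedImmersion i] {d : ℕ}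
    (c : Fin (d + 1) → Fin 5 → k) (hi : IsPar f d c i) {n a : ℕ} (hna : d + a = n) (q : Fin 5 → LefPen.Form 1 k n)
    (hq : ∑ l, (q l).1 * sb (N := 4) (bform c) (MvPolynomial.pderiv l f.1) = 0) :
    ∃ θ : Omega.conormal i ⟶ Twist.twistProjSpace 1 k (a : ℤ), ∀ (e : ℕ) (G : MvPolynomial (Fin 5) k),
      G.IsHomogeneous e → sb (N := 4) (bform c) G = 0 → ∀ (j : Fin 5) (x : VV i (emb f) j),
        T i (emb f) θ j G x * al x (bform c j).1 ^ e =
          al x (∑ l, (q l).1 * sb (N := 4) (bform c) (MvPolynomial.pderiv l G)) := by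
  sorry

end Sheaf

end K496.PlanQ5
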