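import Groth.Agent.Fano.K496.QuintLin
import Groth.Agent.Fano.K778.CaseI
import Groth.Agent.Fano.K373.CaseII
import Groth.Agent.Fano.K416.Planar
import Groth.Agent.Fano.K203.Nondeg
import Groth.Agent.Fano.K714.LinSp
import Groth.Agent.CAlgX.K581.HomDim
import Groth.Agent.RatCurv.K888.BinForm

/-!
# Smooth rational quintics on smooth cubic threefolds: the algebra

`main`: no vector `c` of five binary forms of degree five defining a closed immersion into a smooth cubic threefold
`f = 0` admits forms `v_ab` of degree at most three such that `p ∧ ∇G(c) = u_G v` for all linear forms `G` vanishing on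
`c` and for all quadratic forms `G` vanishing on `c` and killed by a linear functional `κ` (`p = ∇f(c)`).
-/

set_option autoImplicit false

namespace K496.QuintAlg

open MvPolynomial K713.BinFactor K496.BinAlg K496.QuintDat K496.QuintLin K778.CaseI K373.CaseII K416.Planar
  K203.Nondeg

variable {k : Type*} [Field k]

section Case3

variable [IsAlgClosed k] [CharZero k]

theorem sum_gamma {τ : Fin 4 → Fin 4 → Fin 4 → k} {c γ : Fin 4 → MvPolynomial (Fin 2) k} {u : MvPolynomial (Fin 2) k}
    {m : ℕ} (D : Dat τ c γ u m) (i : Fin 2) : ∑ a, γ a * pderiv i (c a) = 0 := by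
  have h1 : pderiv i (tri τ c c c) = 0 := by rw [D.van, map_zero]
  rw [pderiv_tri, tri_swap₁ (dd i c) c c D.symm₁, tri_swap₂ c (dd i c) c D.symm₂] at h1
  have h2 : tri τ c c (dd i c) = 0 := by
    have h3 : (3 : MvPolynomial (Fin 2) k) ≠ 0 := by
      have : (3 : MvPolynomial (Fin 2) k) = C (3 : k) := (map_ofNat C 3).symm
      rw [this]
      exact fun h => (by norm_num : (3 : k) ≠ 0) (C_injective _ _ (h.trans (map_zero _).symm))
    refine (mul_eq_zero.1 (show (3 : MvPolynomial (Fin 2) k) * tri τ c c (dd i c) = 0 by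
      linear_combination h1)).resolve_left h3
  rw [tri_eq_sum₃] at h2
  simp only [D.eqn] at h2
  have h4 : u * ∑ a, γ a * pderiv i (c a) = 0 := by
    rw [← h2, Finset.mul_sum]
    refine Finset.sum_congr rfl fun a _ => ?_
    simp only [dd]; ring
  exact (mul_eq_zero.1 h4).resolve_left D.u0

theorem caseIII {τ : Fin 4 → Fin 4 → Fin 4 → k} {c γ : Fin 4 → MvPolynomial (Fin 2) k} {u : MvPolynomial (Fin 2) k}
    {m : ℕ} (D : Dat τ c γ u m) (h2 : γ 2 = 0) (h3 : γ 3 = 0) : False := by
  have e0 := sum_gamma D 0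
  have e1 := sum_gamma D 1
  rw [Fin.sum_univ_four, h2, h3] at e0 e1
  have hne : ¬ (γ 0 = 0 ∧ γ 1 = 0) := by
    rintro ⟨h0, h1⟩
    refine D.noSing 5 c (by norm_num) D.hom (fun P hP => D.emb.nz hP) fun a => ?_
    rw [D.eqn]
    fin_cases a
    · simp [h0]
    · simp [h1]
    · simp [h2]
    · simp [h3]
  have hW : pderiv 0 (c 0) * pderiv 1 (c 1) - pderiv 1 (c 0) * pderiv 0 (c 1) = 0 := by
    by_contra hW
    apply hne
    constructor
    · refine (mul_eq_zero.1 (show γ 0 * _ = 0 from ?_)).resolve_right hW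
      linear_combination pderiv 1 (c 1) * e0 - pderiv 0 (c 1) * e1
    · refine (mul_eq_zero.1 (show γ 1 * _ = 0 from ?_)).resolve_right hW
      linear_combination pderiv 0 (c 0) * e1 - pderiv 1 (c 0) * e0
  obtain ⟨x, y, hxy, h⟩ := dep_of_wronskian (n := 4) (D.hom 0) (D.hom 1) hW
  have h4 := Fintype.linearIndependent_iff.1 D.li ![x, y, 0, 0] (by
    rw [Fin.sum_univ_four]
    simp only [Matrix.cons_val_zero, Matrix.cons_val_one, Matrix.cons_val, smul_eq_C_mul]
    simpa using h)
  have h5 := h4 0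
  have h6 := h4 1
  simp at h5 h6
  rcases hxy with h7 | h7
  · exact h7 h5
  · exact h7 h6

end Case3

section NoSing

variable [IsAlgClosed k] [CharZero k]

variable {f : MvPolynomial (Fin 5) k} (hf : f.IsHomogeneous 3)
  (hsm : ∀ x : Fin 5 → k, x ≠ 0 → eval x f = 0 → ∃ a, eval x (pderiv a f) ≠ 0)

omit [IsAlgClosed k] [CharZero k] in
theorem tri_cv_eq_sum {n : ℕ} (τ : Fin n → Fin n → Fin n → k) (x y : Fin n → MvPolynomial (Fin 2) k) (w : Fin n → k) :
    tri τ x y (cv w) = ∑ a, C (w a) * tri τ x y (Pi.single a 1) := tri_eq_sum₃ τ x y (cv w)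

include hf hsm in
theorem noSing {W : Submodule k (Fin 5 → k)} (b : Module.Basis (Fin 4) k W) {x₄ : Fin 5 → k}
    (hx₄ : ∀ y : Fin 5 → k, ∃ t : k, y - t • x₄ ∈ W) : NoSing (res (tau f) fun i => (b i).1) := by
  intro d w hd hw hnz hsing
  have hb : ∀ j, tri (tau f) (push (fun i => (b i).1) w) (push (fun i => (b i).1) w) (cv (b j).1) = 0 := by
    intro j
    have := hsing j
    rwa [tri_res, push_single] at this
  obtain ⟨x, hx⟩ : ∃ x, x = push (fun i => (b i).1) w := ⟨_, rfl⟩
  rw [← hx] at hb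
  have hxh : ∀ a, (x a).IsHomogeneous d := by
    intro a
    rw [hx]
    refine IsHomogeneous.sum _ _ _ fun i _ => ?_
    simpa using (hw i).mul (isHomogeneous_C (Fin 2) ((b i).1 a))
  have hA : (tri (tau f) x x (cv x₄)).IsHomogeneous (2 * d - 1 + 1) := by
    have := isHomogeneous_tri (tau f) hxh hxh (isHomogeneous_cv x₄)
    convert this using 1
    omega
  obtain ⟨Q, hQ, hQ0⟩ := exists_zero hA
  -- all derivatives vanish at the point
  have hall : ∀ y : Fin 5 → k, eval Q (tri (tau f) x x (cv y)) = 0 := by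
    intro y
    obtain ⟨t, ht⟩ := hx₄ y
    have h1 : cv y = (C t : MvPolynomial (Fin 2) k) • cv x₄ + push (fun i => (b i).1) (fun i => C (b.repr ⟨_, ht⟩ i)) := by
      ext1 a
      have h2 := congrArg (fun w : W => w.1 a) (b.sum_repr ⟨_, ht⟩)
      simp only [Submodule.coe_sum, Submodule.coe_smul, Finset.sum_apply, Pi.smul_apply, smul_eq_mul,
        Pi.sub_apply] at h2
      rw [Pi.add_apply, Pi.smul_apply, smul_eq_mul, push]
      simp only [cv, ← map_mul, ← map_sum, ← map_add]
      rw [h2]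
      congr 1
      ring
    rw [h1, tri_add₃, tri_smul₃, push_eq_sum, tri_sum₃, map_add, map_mul, hQ0, mul_zero, zero_add, map_sum]
    refine Finset.sum_eq_zero fun i _ => ?_
    rw [tri_smul₃, hb, mul_zero, map_zero]
  have hx0 : (fun a => eval Q (x a)) ≠ 0 := by
    intro h0
    obtain ⟨j, hj⟩ := hnz Q hQ
    apply hj
    have h1 : ∑ i, eval Q (w i) • b i = 0 := by
      apply Subtype.ext
      rw [Submodule.coe_sum]
      ext a
      have := congrFun h0 a
      simp only [hx, push, map_sum, map_mul, eval_C] at this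
      simpa [Finset.sum_apply] using this
    exact Fintype.linearIndependent_iff.1 b.linearIndependent _ h1 j
  have hp : ∀ a, eval (fun a => eval Q (x a)) (pderiv a f) = 0 := by
    intro a
    rw [← eval_aeval, aeval_pderiv_eq hf, map_mul]
    have h1 := hall (Pi.single a 1)
    have h2 : cv (Pi.single a 1 : Fin 5 → k) = Pi.single a 1 := by
      ext1 b
      by_cases h : b = a
      · subst h; simp [cv]
      · simp [cv, h]
    rw [h2] at h1
    rw [h1, mul_zero]
  obtain ⟨a, ha⟩ := hsm _ hx0 (by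
    have h1 := congrArg (eval fun a => eval Q (x a)) hf.sum_X_mul_pderiv
    rw [map_sum] at h1
    simp only [map_mul, hp, mul_zero, Finset.sum_const_zero] at h1
    rw [nsmul_eq_mul, map_mul, map_natCast] at h1
    exact (mul_eq_zero.1 h1.symm).resolve_left (by norm_num))
  exact ha (hp a)

end NoSing

section MkDat

variable [IsAlgClosed k] [CharZero k]

/-- The linear functional with coefficients `μ`. -/
noncomputable def fn {n : ℕ} (μ : Fin n → k) : (Fin n → k) →ₗ[k] k := ∑ a, μ a • LinearMap.proj a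

omit [IsAlgClosed k] [CharZero k] in
theorem fn_apply {n : ℕ} (μ x : Fin n → k) : fn μ x = ∑ a, μ a * x a := by
  simp [fn, LinearMap.sum_apply]

omit [IsAlgClosed k] [CharZero k] in
theorem fn_single {n : ℕ} (μ : Fin n → k) (a : Fin n) : fn μ (Pi.single a 1) = μ a := by
  simp [fn_apply, Pi.single_apply]

/-- A linear relation between the forms. -/
def Rel {n : ℕ} (c : Fin n → MvPolynomial (Fin 2) k) (μ : Fin n → k) : Prop := ∑ a, C (μ a) * c a = 0

omit [IsAlgClosed k] [CharZero k] in
/-- Functionals vanishing on the common zeros of others. -/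
theorem exists_comb {n r : ℕ} (L : Fin r → Fin n → k) (μ : Fin n → k)
    (h : ∀ x : Fin n → k, (∀ i, fn (L i) x = 0) → fn μ x = 0) : ∃ t : Fin r → k, ∀ a, μ a = ∑ i, t i * L i a := by
  have h1 : fn μ ∈ Submodule.span k (Set.range fun i => fn (L i)) := by
    refine mem_span_of_iInf_ker_le_ker fun x hx => ?_
    rw [Submodule.mem_iInf] at hx
    exact h x hx
  obtain ⟨t, ht⟩ := (Submodule.mem_span_range_iff_exists_fun k).1 h1
  refine ⟨t, fun a => ?_⟩
  have h2 := congrArg (fun φ : (Fin n → k) →ₗ[k] k => φ (Pi.single a 1)) ht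
  simp only [LinearMap.sum_apply, LinearMap.smul_apply, fn_single, smul_eq_mul] at h2
  exact h2.symm

omit [IsAlgClosed k] [CharZero k] in
theorem rel_of_comb {n r : ℕ} {c : Fin n → MvPolynomial (Fin 2) k} {L : Fin r → Fin n → k} (hL : ∀ i, Rel c (L i))
    {μ : Fin n → k} {t : Fin r → k} (h : ∀ a, μ a = ∑ i, t i * L i a) : Rel c μ := by
  have h1 : ∑ a, C (μ a) * c a = ∑ i, C (t i) * ∑ a, C (L i a) * c a := by
    simp only [Finset.mul_sum]
    rw [Finset.sum_comm]
    refine Finset.sum_congr rfl fun a _ => ?_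
    rw [h a, map_sum, Finset.sum_mul]
    exact Finset.sum_congr rfl fun i _ => by rw [map_mul]; ring
  rw [Rel, h1]
  exact Finset.sum_eq_zero fun i _ => by rw [hL i, mul_zero]

variable {f : MvPolynomial (Fin 5) k} (hf : f.IsHomogeneous 3)
  (hsm : ∀ x : Fin 5 → k, x ≠ 0 → eval x f = 0 → ∃ a, eval x (pderiv a f) ≠ 0)
  {c : Fin 5 → MvPolynomial (Fin 2) k} (hc : ∀ a, (c a).IsHomogeneous 5) (hemb : Emb c) (hfc : aeval c f = 0)

omit [IsAlgClosed k] in
include hf in
theorem tri_cv_of_eq {w : Fin 5 → k} {g : MvPolynomial (Fin 2) k}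
    (h : ∑ a, C (w a) * aeval c (pderiv a f) = g) : tri (tau f) c c (cv w) = C (1 / 3) * g := by
  rw [tri_cv_eq_sum, ← h, Finset.mul_sum]
  refine Finset.sum_congr rfl fun a _ => ?_
  rw [aeval_pderiv_eq hf]
  have h3 : (C (1 / 3) : MvPolynomial (Fin 2) k) * 3 = 1 := by
    rw [show (3 : MvPolynomial (Fin 2) k) = C (3 : k) from (map_ofNat C 3).symm, ← map_mul]
    norm_num
  linear_combination (-(C (w a) * tri (tau f) c c (Pi.single a 1))) * h3

include hf hsm hc hemb hfc in
theorem mkDat {l : Fin 5 → k} {a₀ : Fin 5} (hl : l a₀ ≠ 0) (hrel : Rel c l)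
    (honly : ∀ μ, Rel c μ → ∃ t : k, ∀ a, μ a = t * l a) (b : Module.Basis (Fin 4) k (LinearMap.ker (fn l)))
    {m : ℕ} (hm : m ≤ 3) {γ : Fin 4 → MvPolynomial (Fin 2) k} (hγ : ∀ j, (γ j).IsHomogeneous m)
    {u : MvPolynomial (Fin 2) k} (hu : u ≠ 0)
    (heq : ∀ j, ∑ a, C ((b j).1 a) * aeval c (pderiv a f) = u * γ j) :
    ∃ c' : Fin 4 → MvPolynomial (Fin 2) k, Dat (res (tau f) fun i => (b i).1) c' γ (C (1 / 3) * u) m := by
  obtain ⟨M, hM, hcM⟩ := exists_coord b c (fun μ hμ => by
    obtain ⟨t, ht⟩ := exists_comb ![l] μ (fun x hx => by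
      rw [fn_apply]
      exact hμ x (hx 0))
    refine rel_of_comb (L := ![l]) (fun i => ?_) ht
    fin_cases i
    exact hrel)
  refine ⟨fun i => ∑ a, C (M i a) * c a, ?_⟩
  constructor
  · exact res_s12 (tau_s12 f) _
  · exact res_s23 (tau_s23 f) _
  · intro a
    refine IsHomogeneous.sum _ _ _ fun j _ => ?_
    simpa using (isHomogeneous_C (Fin 2) (M a j)).mul (hc j)
  · rw [Fintype.linearIndependent_iff]
    intro x hx i
    obtain ⟨t, ht⟩ := honly (fun a => ∑ j, x j * M j a) (by
      rw [Rel, ← hx]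
      simp only [smul_eq_C_mul, Finset.mul_sum]
      rw [Finset.sum_comm]
      refine Finset.sum_congr rfl fun a _ => ?_
      rw [map_sum, Finset.sum_mul]
      exact Finset.sum_congr rfl fun j _ => by rw [map_mul]; ring)
    have h1 : ∑ a, (∑ j, x j * M j a) * (b i).1 a = x i := by
      simp only [Finset.sum_mul]
      rw [Finset.sum_comm]
      have h2 : ∀ j, ∑ a, x j * M j a * (b i).1 a = x j * if j = i then 1 else 0 := by
        intro j
        rw [← hM j i, Finset.mul_sum]
        exact Finset.sum_congr rfl fun a _ => by ring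
      simp only [h2]
      simp
    rw [← h1]
    have h3 : fn l (b i).1 = 0 := (b i).2
    rw [fn_apply] at h3
    simp only [ht]
    rw [← mul_zero t, ← h3, Finset.mul_sum]
    exact Finset.sum_congr rfl fun a _ => by ring
  · rw [hcM] at hemb
    exact emb_of_push hemb
  · exact hm
  · exact hγ
  · exact mul_ne_zero (by simp) hu
  · intro j
    rw [tri_res, push_single, ← hcM, tri_cv_of_eq hf (heq j)]
    ring
  · rw [tri_res, ← hcM, ← aeval_eq hf, hfc]
  · refine noSing hf hsm b (x₄ := Pi.single a₀ 1) fun y => ⟨(l a₀)⁻¹ * fn l y, ?_⟩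
    rw [LinearMap.mem_ker, map_sub, map_smul, fn_single, smul_eq_mul]
    field_simp
    ring

omit [IsAlgClosed k] [CharZero k] in
theorem finrank_ker_fn {n : ℕ} {l : Fin (n + 1) → k} {a₀ : Fin (n + 1)} (hl : l a₀ ≠ 0) :
    Module.finrank k (LinearMap.ker (fn l)) = n := by
  have h1 := LinearMap.finrank_range_add_finrank_ker (fn l)
  have h2 : LinearMap.range (fn l) = ⊤ := LinearMap.range_eq_top.2 (LinearMap.surjective (fun h => hl (by
    rw [← fn_single l a₀, h, LinearMap.zero_apply])))
  rw [h2, finrank_top, Module.finrank_self, Module.finrank_fin_fun] at h1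
  omega

include hf hsm hc hemb hfc in
/-- The curve spans a hyperplane. -/
theorem false_of_one {l : Fin 5 → k} {a₀ : Fin 5} (hl : l a₀ ≠ 0) (hrel : Rel c l)
    (honly : ∀ μ, Rel c μ → ∃ t : k, ∀ a, μ a = t * l a) {m : ℕ} (hm : m ≤ 3)
    {v : Fin 5 → Fin 5 → MvPolynomial (Fin 2) k} (hv : ∀ a b, (v a b).IsHomogeneous m)
    {u : MvPolynomial (Fin 2) k} (hu : u ≠ 0)
    (huv : ∀ a b, aeval c (pderiv b f) * C (l a) - aeval c (pderiv a f) * C (l b) = u * v a b) : False := by
  let g₀ : (Fin 5 → k) →ₗ[k] MvPolynomial (Fin 2) k :=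
    ∑ a, (LinearMap.proj a : (Fin 5 → k) →ₗ[k] k).smulRight ((-(l a₀)⁻¹) • v a a₀)
  have hg₀ : ∀ x, g₀ x = ∑ a, C (x a) * (C (-(l a₀)⁻¹) * v a a₀) := by
    intro x
    simp only [g₀, LinearMap.sum_apply, LinearMap.smulRight_apply, LinearMap.proj_apply, smul_eq_C_mul]
  let g : LinearMap.ker (fn l) →ₗ[k] MvPolynomial (Fin 2) k := g₀ ∘ₗ (LinearMap.ker (fn l)).subtype
  have hgh : ∀ x, (g x).IsHomogeneous m := by
    intro x
    change (g₀ x.1).IsHomogeneous m
    rw [hg₀]
    refine IsHomogeneous.sum _ _ _ fun a _ => ?_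
    have := (isHomogeneous_C (Fin 2) (x.1 a)).mul ((isHomogeneous_C (Fin 2) (-(l a₀)⁻¹)).mul (hv a a₀))
    rwa [zero_add, zero_add] at this
  have hgp : ∀ x : LinearMap.ker (fn l), ∑ a, C (x.1 a) * aeval c (pderiv a f) = u * g x := by
    intro x
    have hx : fn l x.1 = 0 := x.2
    rw [fn_apply] at hx
    change _ = u * g₀ x.1
    rw [hg₀, Finset.mul_sum]
    have h1 : ∀ a, u * (C (x.1 a) * (C (-(l a₀)⁻¹) * v a a₀)) =
        C (x.1 a) * aeval c (pderiv a f) - C ((l a₀)⁻¹) * aeval c (pderiv a₀ f) * C (l a * x.1 a) := by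
      intro a
      have h2 := huv a a₀
      have h3 : (C ((l a₀)⁻¹) : MvPolynomial (Fin 2) k) * C (l a₀) = 1 := by
        rw [← map_mul, inv_mul_cancel₀ hl, map_one]
      rw [map_neg, map_mul]
      linear_combination (C (x.1 a) * C (l a₀)⁻¹) * h2 + (C (x.1 a) * aeval c (pderiv a f)) * h3
    simp only [h1, Finset.sum_sub_distrib]
    rw [← Finset.mul_sum, ← map_sum, hx, map_zero, mul_zero, sub_zero]
  obtain ⟨b, s, hs, hb0, hbi⟩ := exists_adapted g 4 (finrank_ker_fn hl)
  have hdat := fun (b : Module.Basis (Fin 4) k (LinearMap.ker (fn l))) =>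
    mkDat hf hsm hc hemb hfc hl hrel honly b hm (γ := fun j => g (b j)) (fun j => hgh _) hu fun j => hgp _
  obtain hs2 | rfl | rfl : s ≤ 2 ∨ s = 3 ∨ s = 4 := by omega
  · obtain ⟨c', D⟩ := hdat b
    exact caseIII D (hb0 2 hs2) (hb0 3 (by change s ≤ 3; omega))
  · obtain ⟨c', D⟩ := hdat b
    refine caseII D (hb0 3 le_rfl) ?_
    rw [Fintype.linearIndependent_iff]
    intro x hx
    have h1 := hbi ![x 0, x 1, x 2, 0] (by
      intro i hi
      obtain rfl : i = 3 := by ext; have := i.2; change (i : ℕ) = 3; omega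
      rfl) (by
      rw [Fin.sum_univ_four]
      rw [Fin.sum_univ_three] at hx
      simpa using hx)
    intro i
    fin_cases i
    · exact congrFun h1 0
    · exact congrFun h1 1
    · exact congrFun h1 2
  · -- the functional is injective, so `m = 3`
    have hinj : Function.Injective g := by
      rw [injective_iff_map_eq_zero]
      intro x hx
      have h1 := hbi (fun i => b.repr x i) (by intro i hi; have := i.2; omega) (by
        rw [← hx]
        conv_rhs => rw [← b.sum_repr x]
        rw [map_sum]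
        exact Finset.sum_congr rfl fun i _ => (map_smul g _ _).symm)
      rw [← b.sum_repr x]
      refine Finset.sum_eq_zero fun i _ => ?_
      have := congrFun h1 i
      simp only [Pi.zero_apply] at this
      rw [this, zero_smul]
    let g' : LinearMap.ker (fn l) →ₗ[k] K888.BinForm.S k m :=
      LinearMap.codRestrict _ g fun x => (mem_homogeneousSubmodule _ _).2 (hgh x)
    have hinj' : Function.Injective g' := by
      intro x y hxy
      exact hinj (congrArg Subtype.val hxy)
    have hfr := LinearMap.finrank_le_finrank_of_injective hinj'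
    rw [finrank_ker_fn hl, K888.BinForm.finrank_S] at hfr
    obtain rfl : m = 3 := by omega
    have hbij : Function.Bijective g' := by
      refine ⟨hinj', ?_⟩
      refine (LinearMap.injective_iff_surjective_of_finrank_eq_finrank ?_).1 hinj'
      rw [finrank_ker_fn hl, K888.BinForm.finrank_S]
    let e := LinearEquiv.ofBijective g' hbij
    have hX : ∀ i : Fin 2, (X i : MvPolynomial (Fin 2) k).IsHomogeneous 1 := fun i => isHomogeneous_X _ _
    let q : Fin 4 → K888.BinForm.S k 3 := ![⟨X 0 ^ 3, (mem_homogeneousSubmodule _ _).2 (by simpa using (hX 0).pow 3)⟩,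
      ⟨X 0 ^ 2 * X 1, (mem_homogeneousSubmodule _ _).2 (by simpa using ((hX 0).pow 2).mul (hX 1))⟩,
      ⟨X 0 * X 1 ^ 2, (mem_homogeneousSubmodule _ _).2 (by simpa using (hX 0).mul ((hX 1).pow 2))⟩,
      ⟨X 1 ^ 3, (mem_homogeneousSubmodule _ _).2 (by simpa using (hX 1).pow 3)⟩]
    have hq : ∀ x : Fin 4 → k, ∑ i, x i • q i = 0 → x = 0 := by
      intro x hx
      have h1 := congrArg Subtype.val hx
      rw [Submodule.coe_sum, Fin.sum_univ_four] at h1
      simp only [q, Submodule.coe_smul, Matrix.cons_val_zero, Matrix.cons_val_one, Matrix.cons_val,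
        smul_eq_C_mul, ZeroMemClass.coe_zero] at h1
      have : Infinite k := Infinite.of_injective ((↑) : ℕ → k) Nat.cast_injective
      refine K798.TwBin.eq_zero_of_bv (d := 3) fun s t => ?_
      have h2 := congrArg (eval ![s, t]) h1
      simp only [map_add, map_mul, map_pow, eval_C, eval_X, map_zero, Matrix.cons_val_zero, Matrix.cons_val_one] at h2
      rw [K798.TwBin.bv, Fin.sum_univ_four]
      simp
      linear_combination h2
    have hqi : LinearIndependent k q := by
      rw [Fintype.linearIndependent_iff]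
      intro x hx
      exact fun i => congrFun (hq x hx) i
    let bq : Module.Basis (Fin 4) k (K888.BinForm.S k 3) := Module.Basis.mk hqi
      (hqi.span_eq_top_of_card_eq_finrank' (by rw [Fintype.card_fin, K888.BinForm.finrank_S])).ge
    let b' := bq.map e.symm
    have hb' : (fun j => g (b' j)) = ![X 0 ^ 3, X 0 ^ 2 * X 1, X 0 * X 1 ^ 2, X 1 ^ 3] := by
      have h1 : ∀ j, g (b' j) = (q j).1 := by
        intro j
        have h2 : e (b' j) = q j := by
          rw [Module.Basis.map_apply, LinearEquiv.apply_symm_apply, Module.Basis.mk_apply]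
        exact congrArg Subtype.val h2
      funext j
      rw [h1]
      fin_cases j <;> rfl
    obtain ⟨c', D⟩ := hdat b'
    rw [hb'] at D
    exact caseI D

omit [IsAlgClosed k] in
include hf hc in
theorem isHomogeneous_p (a : Fin 5) : (aeval c (pderiv a f)).IsHomogeneous 10 := by
  have := (hf.pderiv (i := a)).aeval c (n := 5) hc
  simpa using this

include hsm hemb hfc in
theorem p_ne_zero {P : Fin 2 → k} (hP : P ≠ 0) : ∃ a, eval P (aeval c (pderiv a f)) ≠ 0 := by
  obtain ⟨j, hj⟩ := hemb.nz hP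
  obtain ⟨a, ha⟩ := hsm (fun a => eval P (c a)) (fun h => hj (congrFun h j)) (by
    rw [← eval_aeval, hfc, map_zero])
  exact ⟨a, by rwa [eval_aeval]⟩

omit [IsAlgClosed k] [CharZero k] in
theorem sum_p {G : MvPolynomial (Fin 5) k} (h : aeval c G = 0) (i : Fin 2) :
    ∑ a, aeval c (pderiv a G) * pderiv i (c a) = 0 := by
  rw [← K669.MvPolyDer.pderiv_aeval, h, map_zero]

include hf hsm hc hemb hfc in
theorem uv_ne_zero {l : Fin 5 → k} {a₀ : Fin 5} (hl : l a₀ ≠ 0)
    {v : Fin 5 → Fin 5 → MvPolynomial (Fin 2) k} {u : MvPolynomial (Fin 2) k}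
    (huv : ∀ a b, aeval c (pderiv b f) * C (l a) - aeval c (pderiv a f) * C (l b) = u * v a b) :
    ∃ a b, u * v a b ≠ 0 := by
  by_contra hcon
  push Not at hcon
  obtain ⟨Q, hQ, hQ0⟩ := exists_zero (n := 9) (isHomogeneous_p hf hc a₀)
  obtain ⟨b, hb⟩ := p_ne_zero hsm hemb hfc hQ
  have h1 := congrArg (eval Q) (huv a₀ b)
  rw [hcon, map_sub, map_mul, map_mul, hQ0, zero_mul, sub_zero, eval_C, map_zero] at h1
  rcases mul_eq_zero.1 h1 with h2 | h2
  · exact hb h2
  · exact hl h2

include hf hsm hc hemb hfc in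
/-- The curve spans at most a plane. -/
theorem false_of_two {l l' : Fin 5 → k} {a₀ a₁ : Fin 5} (hdet : l a₀ * l' a₁ - l a₁ * l' a₀ ≠ 0) (hrel : Rel c l)
    (hrel' : Rel c l') {m : ℕ} {v : Fin 5 → Fin 5 → MvPolynomial (Fin 2) k} (hv : ∀ a b, (v a b).IsHomogeneous m)
    {u u' : MvPolynomial (Fin 2) k}
    (huv : ∀ a b, aeval c (pderiv b f) * C (l a) - aeval c (pderiv a f) * C (l b) = u * v a b)
    (huv' : ∀ a b, aeval c (pderiv b f) * C (l' a) - aeval c (pderiv a f) * C (l' b) = u' * v a b) : False := by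
  obtain ⟨a, b, hab⟩ : ∃ a b, u * v a b ≠ 0 := by
    by_cases h : l a₀ = 0
    · have h1 : l a₁ ≠ 0 := by
        intro h1
        rw [h, h1] at hdet
        simp at hdet
      exact uv_ne_zero hf hsm hc hemb hfc h1 huv
    · exact uv_ne_zero hf hsm hc hemb hfc h huv
  have hu : u ≠ 0 := left_ne_zero_of_mul hab
  have hvab : v a b ≠ 0 := right_ne_zero_of_mul hab
  have hp := isHomogeneous_p hf hc
  have hlh : ∀ (l : Fin 5 → k) a b, (aeval c (pderiv b f) * C (l a) - aeval c (pderiv a f) * C (l b)).IsHomogeneous 10 :=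
    fun l a b => ((hp b).mul (isHomogeneous_C _ _)).sub ((hp a).mul (isHomogeneous_C _ _))
  obtain ⟨e, he, hue⟩ : ∃ e, 10 = m + e ∧ u.IsHomogeneous e := by
    have h1 := hlh l a b
    rw [huv, mul_comm] at h1
    exact (hom_of_mul (hv a b) hvab h1).resolve_left hu
  have hue' : u'.IsHomogeneous e := by
    have h1 := hlh l' a b
    rw [huv', mul_comm] at h1
    exact hom_of_mul' (hv a b) hvab h1 he
  have hμ : ∀ a, (u' * C (l a) - u * C (l' a)).IsHomogeneous e := fun a =>
    (hue'.mul (isHomogeneous_C _ _)).sub (hue.mul (isHomogeneous_C _ _))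
  rcases exists_mul_of_prim (D := fun a => aeval c (pderiv a f)) (v := fun a => u' * C (l a) - u * C (l' a)) hp hμ
    (fun i j => by linear_combination u' * huv i j - u * huv' i j) (fun P hP => p_ne_zero hsm hemb hfc hP) with h | h
  · have h0 := h a₀
    have h1 := h a₁
    have h2 : u * C (l a₀ * l' a₁ - l a₁ * l' a₀) = 0 := by
      rw [map_sub, map_mul, map_mul]
      linear_combination (-C (l a₀)) * h1 + C (l a₁) * h0
    rcases mul_eq_zero.1 h2 with h3 | h3
    · exact hu h3
    · exact hdet (C_injective _ _ (h3.trans (map_zero _).symm))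
  · obtain ⟨e', g, he', -, hg0, hg⟩ := h
    let W : Submodule k (Fin 5 → k) := LinearMap.ker (fn l) ⊓ LinearMap.ker (fn l')
    have hWp : ∀ x ∈ W, ∑ a, C (x a) * aeval c (pderiv a f) = 0 := by
      rintro x ⟨hx, hx'⟩
      have hx1 : fn l x = 0 := hx
      have hx2 : fn l' x = 0 := hx'
      rw [fn_apply] at hx1 hx2
      have h1 : g * ∑ a, C (x a) * aeval c (pderiv a f) = 0 := by
        rw [Finset.mul_sum]
        have h2 : ∀ a, g * (C (x a) * aeval c (pderiv a f)) = u' * C (l a * x a) - u * C (l' a * x a) := by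
          intro a
          have := hg a
          rw [map_mul, map_mul]
          linear_combination (-C (x a)) * this
        simp only [h2, Finset.sum_sub_distrib]
        rw [← Finset.mul_sum, ← Finset.mul_sum, ← map_sum, ← map_sum, hx1, hx2]
        simp
      exact (mul_eq_zero.1 h1).resolve_left hg0
    have hW3 : Module.finrank k W = 3 := by
      have h1 := LinearMap.finrank_range_add_finrank_ker ((fn l).prod (fn l'))
      rw [LinearMap.ker_prod, Module.finrank_fin_fun] at h1
      have h2 : LinearMap.range ((fn l).prod (fn l')) = ⊤ := by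
        rw [LinearMap.range_eq_top]
        rintro ⟨y, y'⟩
        refine ⟨((y * l' a₁ - y' * l a₁) / (l a₀ * l' a₁ - l a₁ * l' a₀)) • Pi.single a₀ 1 +
          ((y' * l a₀ - y * l' a₀) / (l a₀ * l' a₁ - l a₁ * l' a₀)) • Pi.single a₁ 1, ?_⟩
        refine Prod.ext ?_ ?_
        · change fn l _ = y
          rw [map_add, map_smul, map_smul, fn_single, fn_single, smul_eq_mul, smul_eq_mul, div_mul_eq_mul_div,
            div_mul_eq_mul_div, ← add_div, div_eq_iff hdet]
          ring
        · change fn l' _ = y'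
          rw [map_add, map_smul, map_smul, fn_single, fn_single, smul_eq_mul, smul_eq_mul, div_mul_eq_mul_div,
            div_mul_eq_mul_div, ← add_div, div_eq_iff hdet]
          ring
      rw [h2, finrank_top, Module.finrank_prod, Module.finrank_self] at h1
      change 1 + 1 + Module.finrank k W = 5 at h1
      omega
    let b := Module.finBasisOfFinrankEq k W hW3
    obtain ⟨M, hM, hcM⟩ := exists_coord b c (fun μ hμ => by
      obtain ⟨t, ht⟩ := exists_comb ![l, l'] μ (fun x hx => by
        rw [fn_apply]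
        exact hμ x ⟨hx 0, hx 1⟩)
      refine rel_of_comb (L := ![l, l']) (fun i => ?_) ht
      fin_cases i
      · exact hrel
      · exact hrel')
    have hpl := planar (c := fun i => ∑ a, C (M i a) * c a) (fun i => by
      refine IsHomogeneous.sum _ _ _ fun j _ => ?_
      simpa using (isHomogeneous_C (Fin 2) (M i j)).mul (hc j)) (emb_of_push (b := fun i => (b i).1) (by rwa [← hcM]))
      (τ := res (tau f) fun i => (b i).1) (res_s12 (tau_s12 f) _) (res_s23 (tau_s23 f) _) (fun j => by
        rw [tri_res, push_single, ← hcM, tri_cv_of_eq hf (hWp _ (b j).2), mul_zero])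
    have hU : ∀ x ∈ W, eval x f = 0 := by
      intro x hx
      have h1 : push (fun i => (b i).1) (fun i => C (b.repr ⟨x, hx⟩ i)) = cv x := by
        ext1 a
        have h2 := congrArg (fun w : W => w.1 a) (b.sum_repr ⟨x, hx⟩)
        simp only [Submodule.coe_sum, Submodule.coe_smul, Finset.sum_apply, Pi.smul_apply, smul_eq_mul] at h2
        rw [push]
        simp only [cv, ← map_mul, ← map_sum]
        rw [h2]
      have h2 : aeval (cv x) f = 0 := by
        rw [aeval_eq hf, ← h1, ← tri_res, tri]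
        refine Finset.sum_eq_zero fun i _ => Finset.sum_eq_zero fun j _ => Finset.sum_eq_zero fun d _ => ?_
        rw [hpl, map_zero, zero_mul]
      have h3 := congrArg (eval 0) h2
      rw [eval_aeval, map_zero] at h3
      simpa [cv] using h3
    have := K714.LinSp.two_mul_finrank_le (by norm_num) f hf W hU fun x hx hx0 => hsm x hx0 (hU x hx)
    omega

/-- Quadratic forms vanishing on the curve. -/
noncomputable def I2 (c : Fin 5 → MvPolynomial (Fin 2) k) : Submodule k (MvPolynomial (Fin 5) k) :=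
  homogeneousSubmodule (Fin 5) k 2 ⊓ LinearMap.ker (aeval c).toLinearMap

omit [IsAlgClosed k] [CharZero k] in
include hc in
theorem exists_quadric (κ : I2 c →ₗ[k] k) : ∃ G : I2 c, G ≠ 0 ∧ κ G = 0 := by
  have := K581.HomDim.finite_homogeneous k 4 2
  let ψ : homogeneousSubmodule (Fin 5) k 2 →ₗ[k] K888.BinForm.S k 10 :=
    LinearMap.codRestrict _ ((aeval c).toLinearMap ∘ₗ (homogeneousSubmodule (Fin 5) k 2).subtype) fun x => by
      have h := ((mem_homogeneousSubmodule _ _).1 x.2).aeval c (n := 5) hc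
      exact (mem_homogeneousSubmodule _ _).2 h
  have h1 := LinearMap.finrank_range_add_finrank_ker ψ
  have h2 := Submodule.finrank_le (LinearMap.range ψ)
  rw [K581.HomDim.finrank_homogeneous k 4 2] at h1
  rw [K888.BinForm.finrank_S] at h2
  have h3 : Nat.choose (2 + 4) 4 = 15 := by decide
  have hmem : ∀ x : LinearMap.ker ψ, x.1.1 ∈ I2 c := fun x => ⟨x.1.2, congrArg Subtype.val x.2⟩
  let κ' : LinearMap.ker ψ →ₗ[k] k :=
    { toFun := fun x => κ ⟨x.1.1, hmem x⟩
      map_add' := fun x y => by rw [← map_add]; rfl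
      map_smul' := fun r x => by rw [← map_smul]; rfl }
  by_contra hcon
  push Not at hcon
  have hinj : Function.Injective κ' := by
    intro x y hxy
    by_contra hne
    refine hcon (⟨x.1.1, hmem x⟩ - ⟨y.1.1, hmem y⟩) (fun h => hne ?_) ?_
    · have h5 : x.1.1 - y.1.1 = 0 := congrArg (fun G : I2 c => G.1) h
      exact Subtype.ext (Subtype.ext (sub_eq_zero.1 h5))
    · rw [map_sub]
      exact sub_eq_zero.2 hxy
  have h4 := LinearMap.finrank_le_finrank_of_injective hinj
  rw [Module.finrank_self] at h4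
  omega

include hf hsm hc hemb hfc in
/-- The curve spans `P^4`. -/
theorem false_of_zero (honly : ∀ μ, Rel c μ → μ = 0) {m : ℕ} (hm : m ≤ 3)
    {v : Fin 5 → Fin 5 → MvPolynomial (Fin 2) k} (hv : ∀ a b, (v a b).IsHomogeneous m) {G : MvPolynomial (Fin 5) k}
    (hG : G.IsHomogeneous 2) (hG0 : G ≠ 0) (hGc : aeval c G = 0) {u : MvPolynomial (Fin 2) k}
    (huv : ∀ a b, aeval c (pderiv b f) * aeval c (pderiv a G) - aeval c (pderiv a f) * aeval c (pderiv b G) =
      u * v a b) : False := by
  have hli : LinearIndependent k c := by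
    rw [Fintype.linearIndependent_iff]
    intro x hx
    have := honly x (by
      rw [Rel, ← hx]
      exact Finset.sum_congr rfl fun a _ => (smul_eq_C_mul _ _).symm)
    exact fun i => congrFun this i
  refine nondeg hc hli hm hv huv ?_ (sum_p hfc) (sum_p hGc)
  by_contra hcon
  push Not at hcon
  have hg : ∀ a, (aeval c (pderiv a G)).IsHomogeneous 5 := fun a => by
    have := (hG.pderiv (i := a)).aeval c (n := 5) hc
    simpa using this
  rcases exists_mul_of_prim (D := fun a => aeval c (pderiv a f)) (v := fun a => aeval c (pderiv a G))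
    (isHomogeneous_p hf hc) hg (fun i j => by
      have := huv i j
      rw [hcon] at this
      linear_combination this) (fun P hP => p_ne_zero hsm hemb hfc hP) with h | h
  · apply hG0
    have h1 : ∀ a, pderiv a G = 0 := by
      intro a
      have h2 : (pderiv a G).IsHomogeneous 1 := by simpa using hG.pderiv (i := a)
      have h3 := K656.Trilin.euler1 h2
      have h4 := honly (fun i => eval 0 (pderiv i (pderiv a G))) (by
        have := h a
        rw [h3] at this
        simpa [Rel, map_sum] using this)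
      rw [h3]
      refine Finset.sum_eq_zero fun i _ => ?_
      have := congrFun h4 i
      simp only [Pi.zero_apply] at this
      rw [this, map_zero, zero_mul]
    have h5 := hG.sum_X_mul_pderiv
    simp only [h1, mul_zero, Finset.sum_const_zero] at h5
    rw [nsmul_eq_mul] at h5
    refine (mul_eq_zero.1 h5.symm).resolve_left ?_
    rw [show ((2 : ℕ) : MvPolynomial (Fin 5) k) = C (2 : k) from (by rw [Nat.cast_ofNat]; exact (map_ofNat C 2).symm)]
    exact fun h => (by norm_num : (2 : k) ≠ 0) (C_injective _ _ (h.trans (map_zero _).symm))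
  · obtain ⟨e, -, he, -⟩ := h
    omega

end MkDat

section Main

variable [IsAlgClosed k] [CharZero k]

theorem main {f : MvPolynomial (Fin 5) k} (hf : f.IsHomogeneous 3)
    (hsm : ∀ x : Fin 5 → k, x ≠ 0 → eval x f = 0 → ∃ a, eval x (pderiv a f) ≠ 0)
    {c : Fin 5 → MvPolynomial (Fin 2) k} (hc : ∀ a, (c a).IsHomogeneous 5) (hemb : Emb c) (hfc : aeval c f = 0)
    {m : ℕ} (hm : m ≤ 3) {v : Fin 5 → Fin 5 → MvPolynomial (Fin 2) k} (hv : ∀ a b, (v a b).IsHomogeneous m)
    (h1 : ∀ G : MvPolynomial (Fin 5) k, G.IsHomogeneous 1 → aeval c G = 0 → ∃ u : MvPolynomial (Fin 2) k,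
      ∀ a b, aeval c (pderiv b f) * aeval c (pderiv a G) - aeval c (pderiv a f) * aeval c (pderiv b G) = u * v a b)
    (κ : I2 c →ₗ[k] k) (h2 : ∀ G : I2 c, κ G = 0 → ∃ u : MvPolynomial (Fin 2) k,
      ∀ a b, aeval c (pderiv b f) * aeval c (pderiv a G.1) - aeval c (pderiv a f) * aeval c (pderiv b G.1) =
        u * v a b) : False := by
  -- linear relations
  have h1' : ∀ l : Fin 5 → k, Rel c l → ∃ u : MvPolynomial (Fin 2) k, ∀ a b,
      aeval c (pderiv b f) * C (l a) - aeval c (pderiv a f) * C (l b) = u * v a b := by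
    intro l hl
    have hG : (∑ a, C (l a) * X a : MvPolynomial (Fin 5) k).IsHomogeneous 1 :=
      IsHomogeneous.sum _ _ _ fun a _ => isHomogeneous_C_mul_X _ _
    have hGc : aeval c (∑ a, C (l a) * X a : MvPolynomial (Fin 5) k) = 0 := by
      rw [map_sum, ← hl]
      refine Finset.sum_congr rfl fun a _ => ?_
      rw [map_mul, aeval_X, aeval_C, algebraMap_eq]
    have hGd : ∀ a, aeval c (pderiv a (∑ a, C (l a) * X a : MvPolynomial (Fin 5) k)) = C (l a) := by
      intro a
      rw [map_sum, Finset.sum_eq_single a]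
      · rw [pderiv_C_mul, pderiv_X_self, mul_one, aeval_C, algebraMap_eq]
      · intro b _ hb
        rw [pderiv_C_mul, pderiv_X_of_ne hb, mul_zero]
      · simp
    obtain ⟨u, hu⟩ := h1 _ hG hGc
    refine ⟨u, fun a b => ?_⟩
    rw [← hu a b, hGd, hGd]
  by_cases hz : ∀ μ, Rel c μ → μ = 0
  · obtain ⟨G, hG0, hG⟩ := exists_quadric hc κ
    obtain ⟨u, hu⟩ := h2 G hG
    exact false_of_zero hf hsm hc hemb hfc hz hm hv ((mem_homogeneousSubmodule _ _).1 G.2.1)
      (fun h => hG0 (Subtype.ext h)) G.2.2 hu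
  push Not at hz
  obtain ⟨l, hl, hl0⟩ := hz
  obtain ⟨a₀, ha₀⟩ := Function.ne_iff.1 hl0
  obtain ⟨u, hu⟩ := h1' l hl
  by_cases honly : ∀ μ, Rel c μ → ∃ t : k, ∀ a, μ a = t * l a
  · obtain ⟨a, b, hab⟩ := uv_ne_zero hf hsm hc hemb hfc ha₀ hu
    exact false_of_one hf hsm hc hemb hfc ha₀ hl honly hm hv (left_ne_zero_of_mul hab) hu
  push Not at honly
  obtain ⟨l', hl', hne⟩ := honly
  obtain ⟨u', hu'⟩ := h1' l' hl'
  obtain ⟨a₁, ha₁⟩ := hne (l' a₀ / l a₀)
  refine false_of_two hf hsm hc hemb hfc (a₀ := a₀) (a₁ := a₁) ?_ hl hl' hv hu hu'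
  intro h
  apply ha₁
  rw [Pi.zero_apply] at ha₀
  field_simp
  linear_combination h

end Main

end K496.QuintAlg
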