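import Groth.Agent.Fano.K496.BinAlg

/-!
# Trilinear forms on vectors of binary forms; embedded rational quintics in the hyperplane sections of cubics
(definitions)

* `tri τ x y z`;
* `Emb c`: the vector `c` of binary forms separates points and tangent vectors;
* `NoSing τ`: the cubic `tri τ x x x` has no nonconstant rational curve of singular points;
* `Dat τ c γ u m`: the data attached to a smooth rational quintic `c` in a hyperplane section of a cubic threefold
  with unbalanced normal bundle.
-/

set_option autoImplicit false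

namespace K496.QuintDat

open MvPolynomial K713.BinFactor K496.BinAlg

variable {k : Type*} [Field k] {n : ℕ}

/-- The trilinear form with coefficients `τ` on vectors of binary forms. -/
noncomputable def tri (τ : Fin n → Fin n → Fin n → k) (x y z : Fin n → MvPolynomial (Fin 2) k) :
    MvPolynomial (Fin 2) k :=
  ∑ a, ∑ b, ∑ d, C (τ a b d) * (x a * y b * z d)

/-- The constant vector `w`. -/
noncomputable def cv (w : Fin n → k) : Fin n → MvPolynomial (Fin 2) k := fun a => C (w a)

/-- The coordinatewise derivative. -/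
noncomputable def dd (i : Fin 2) (x : Fin n → MvPolynomial (Fin 2) k) : Fin n → MvPolynomial (Fin 2) k :=
  fun a => pderiv i (x a)

section API

variable (τ : Fin n → Fin n → Fin n → k) (x x' y y' z z' : Fin n → MvPolynomial (Fin 2) k) (r : MvPolynomial (Fin 2) k)

theorem tri_add₁ : tri τ (x + x') y z = tri τ x y z + tri τ x' y z := by
  simp only [tri, ← Finset.sum_add_distrib, Pi.add_apply]
  refine Finset.sum_congr rfl fun _ _ => Finset.sum_congr rfl fun _ _ => Finset.sum_congr rfl fun _ _ => ?_
  ring

theorem tri_add₂ : tri τ x (y + y') z = tri τ x y z + tri τ x y' z := by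
  simp only [tri, ← Finset.sum_add_distrib, Pi.add_apply]
  refine Finset.sum_congr rfl fun _ _ => Finset.sum_congr rfl fun _ _ => Finset.sum_congr rfl fun _ _ => ?_
  ring

theorem tri_add₃ : tri τ x y (z + z') = tri τ x y z + tri τ x y z' := by
  simp only [tri, ← Finset.sum_add_distrib, Pi.add_apply]
  refine Finset.sum_congr rfl fun _ _ => Finset.sum_congr rfl fun _ _ => Finset.sum_congr rfl fun _ _ => ?_
  ring

theorem tri_smul₁ : tri τ (r • x) y z = r * tri τ x y z := by
  simp only [tri, Finset.mul_sum, Pi.smul_apply, smul_eq_mul]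
  refine Finset.sum_congr rfl fun _ _ => Finset.sum_congr rfl fun _ _ => Finset.sum_congr rfl fun _ _ => ?_
  ring

theorem tri_smul₂ : tri τ x (r • y) z = r * tri τ x y z := by
  simp only [tri, Finset.mul_sum, Pi.smul_apply, smul_eq_mul]
  refine Finset.sum_congr rfl fun _ _ => Finset.sum_congr rfl fun _ _ => Finset.sum_congr rfl fun _ _ => ?_
  ring

theorem tri_smul₃ : tri τ x y (r • z) = r * tri τ x y z := by
  simp only [tri, Finset.mul_sum, Pi.smul_apply, smul_eq_mul]
  refine Finset.sum_congr rfl fun _ _ => Finset.sum_congr rfl fun _ _ => Finset.sum_congr rfl fun _ _ => ?_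
  ring

theorem tri_sub₁ : tri τ (x - x') y z = tri τ x y z - tri τ x' y z := by
  have h : x - x' = x + (-1 : MvPolynomial (Fin 2) k) • x' := by ext1 a; simp [sub_eq_add_neg]
  rw [h, tri_add₁, tri_smul₁]; ring

theorem tri_sub₂ : tri τ x (y - y') z = tri τ x y z - tri τ x y' z := by
  have h : y - y' = y + (-1 : MvPolynomial (Fin 2) k) • y' := by ext1 a; simp [sub_eq_add_neg]
  rw [h, tri_add₂, tri_smul₂]; ring

theorem tri_sub₃ : tri τ x y (z - z') = tri τ x y z - tri τ x y z' := by
  have h : z - z' = z + (-1 : MvPolynomial (Fin 2) k) • z' := by ext1 a; simp [sub_eq_add_neg]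
  rw [h, tri_add₃, tri_smul₃]; ring

theorem tri_zero₁ : tri τ 0 y z = 0 := by simp [tri]

theorem tri_zero₂ : tri τ x 0 z = 0 := by simp [tri]

theorem tri_zero₃ : tri τ x y 0 = 0 := by simp [tri]

variable {τ}

theorem tri_swap₁ (h : ∀ a b d, τ a b d = τ b a d) : tri τ x y z = tri τ y x z := by
  rw [tri, tri, Finset.sum_comm]
  refine Finset.sum_congr rfl fun b _ => Finset.sum_congr rfl fun a _ => Finset.sum_congr rfl fun d _ => ?_
  rw [h a b d]; ring

theorem tri_swap₂ (h : ∀ a b d, τ a b d = τ a d b) : tri τ x y z = tri τ x z y := by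
  rw [tri, tri]
  refine Finset.sum_congr rfl fun a _ => ?_
  rw [Finset.sum_comm]
  refine Finset.sum_congr rfl fun d _ => Finset.sum_congr rfl fun b _ => ?_
  rw [h a b d]; ring

variable (τ)

theorem pderiv_tri (i : Fin 2) : pderiv i (tri τ x y z) =
    tri τ (dd i x) y z + tri τ x (dd i y) z + tri τ x y (dd i z) := by
  simp only [tri, map_sum, ← Finset.sum_add_distrib]
  refine Finset.sum_congr rfl fun a _ => Finset.sum_congr rfl fun b _ => Finset.sum_congr rfl fun d _ => ?_
  rw [pderiv_C_mul, pderiv_mul, pderiv_mul]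
  simp only [dd, smul_eq_C_mul]
  ring

variable {x y z} in
theorem isHomogeneous_tri {p q r : ℕ} (hx : ∀ a, (x a).IsHomogeneous p) (hy : ∀ a, (y a).IsHomogeneous q)
    (hz : ∀ a, (z a).IsHomogeneous r) : (tri τ x y z).IsHomogeneous (p + q + r) := by
  refine IsHomogeneous.sum _ _ _ fun a _ => IsHomogeneous.sum _ _ _ fun b _ => IsHomogeneous.sum _ _ _ fun d _ => ?_
  have := (isHomogeneous_C (Fin 2) (τ a b d)).mul (((hx a).mul (hy b)).mul (hz d))
  rwa [zero_add] at this

theorem isHomogeneous_cv (w : Fin n → k) (a : Fin n) : (cv w a).IsHomogeneous 0 := isHomogeneous_C _ _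

/-- The trilinear form is determined by its values on the basis in the third variable. -/
theorem tri_eq_sum₃ : tri τ x y z = ∑ d, z d * tri τ x y (Pi.single d 1) := by
  have h : z = ∑ d, z d • (Pi.single d 1 : Fin n → MvPolynomial (Fin 2) k) := by
    ext1 a
    simp [Finset.sum_apply, Pi.single_apply]
  have h2 : ∀ s : Finset (Fin n), tri τ x y (∑ d ∈ s, z d • (Pi.single d 1 : Fin n → MvPolynomial (Fin 2) k)) =
      ∑ d ∈ s, z d * tri τ x y (Pi.single d 1) := by
    intro s
    induction s using Finset.cons_induction with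
    | empty => simp [tri_zero₃]
    | cons a s ha ih => rw [Finset.sum_cons, Finset.sum_cons, tri_add₃, tri_smul₃, ih]
  conv_lhs => rw [h]
  exact h2 _

/-- The values of the trilinear form on the standard basis. -/
theorem tri_single (a b d : Fin n) : tri τ (Pi.single a 1) (Pi.single b 1) (Pi.single d 1) = C (τ a b d) := by
  rw [tri, Finset.sum_eq_single a, Finset.sum_eq_single b, Finset.sum_eq_single d]
  · simp
  · intro e _ he; simp [Pi.single_apply, he]
  · simp
  · intro e _ he; simp [Pi.single_apply, he]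
  · simp
  · intro e _ he; simp [Pi.single_apply, he]
  · simp

end API

/-- The vector `c` of binary forms defines a closed immersion of `P^1`: it separates points (and has no base points) and
tangent vectors. -/
structure Emb (c : Fin n → MvPolynomial (Fin 2) k) : Prop where
  pts : ∀ P Q : Fin 2 → k, P 0 * Q 1 - P 1 * Q 0 ≠ 0 → ∀ x y : k,
    (∀ a, x * eval P (c a) + y * eval Q (c a) = 0) → x = 0 ∧ y = 0
  tan : ∀ Q : Fin 2 → k, Q ≠ 0 → ∀ (ζ : MvPolynomial (Fin 2) k) (w : Fin n → k),
    (∀ a, lin Q ^ 2 ∣ c a - ζ * C (w a)) → False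

/-- The cubic form `tri τ x x x` has no nonconstant rational curve of singular points. -/
def NoSing (τ : Fin n → Fin n → Fin n → k) : Prop :=
  ∀ (d : ℕ) (w : Fin n → MvPolynomial (Fin 2) k), 1 ≤ d → (∀ a, (w a).IsHomogeneous d) →
    (∀ P : Fin 2 → k, P ≠ 0 → ∃ a, eval P (w a) ≠ 0) → ¬ ∀ a, tri τ w w (Pi.single a 1) = 0

/-- A smooth rational quintic `c` (spanning `P^3`) in the cubic surface `tri τ x x x = 0`, whose gradient along `c` is
`u γ` with `γ` of degree `m ≤ 3`. -/
structure Dat (τ : Fin 4 → Fin 4 → Fin 4 → k) (c γ : Fin 4 → MvPolynomial (Fin 2) k) (u : MvPolynomial (Fin 2) k)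
    (m : ℕ) : Prop where
  symm₁ : ∀ a b d, τ a b d = τ b a d
  symm₂ : ∀ a b d, τ a b d = τ a d b
  hom : ∀ a, (c a).IsHomogeneous 5
  li : LinearIndependent k c
  emb : Emb c
  hm : m ≤ 3
  homγ : ∀ a, (γ a).IsHomogeneous m
  u0 : u ≠ 0
  eqn : ∀ a, tri τ c c (Pi.single a 1) = u * γ a
  van : tri τ c c c = 0
  noSing : NoSing τ

namespace Emb

variable {c : Fin n → MvPolynomial (Fin 2) k}

/-- No base points. -/
theorem nz (h : Emb c) {P : Fin 2 → k} (hP : P ≠ 0) : ∃ a, eval P (c a) ≠ 0 := by
  by_contra hcon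
  push Not at hcon
  have h1 := h.pts P ![-P 1, P 0]
  by_cases h2 : P 0 * P 0 + P 1 * P 1 = 0
  · -- use another independent point
    obtain ⟨Q, hQ⟩ : ∃ Q : Fin 2 → k, P 0 * Q 1 - P 1 * Q 0 ≠ 0 := by
      by_cases h3 : P 0 = 0
      · refine ⟨![1, 0], ?_⟩
        have h4 : P 1 ≠ 0 := by
          intro h4
          apply hP
          ext i; fin_cases i
          exacts [h3, h4]
        simpa using h4
      · exact ⟨![0, 1], by simpa using h3⟩
    have := h.pts P Q hQ 1 0 (fun a => by rw [hcon a]; ring)
    exact one_ne_zero this.1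
  · have := h1 (by simp; intro h3; apply h2; linear_combination h3) 1 0 (fun a => by rw [hcon a]; ring)
    exact one_ne_zero this.1

end Emb

end K496.QuintDat
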