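import Groth.Agent.Fano.K496.QuintDat
import Groth.Agent.Fano.K475.RatClass

/-!
# The binary forms of a closed immersion `P^1 → P^4` separate points and tangent vectors
-/

set_option autoImplicit false
universe u

open CategoryTheory AlgebraicGeometry Limits TopologicalSpace Opposite

namespace K496.QuintEmb

open MvPolynomial K713.BinFactor K496.BinAlg K496.QuintDat
open LefPen Groth.Agent.Fano.K714.Rat K475.RatAlg K475.RatClass

variable {k : Type u} [Field k] {d : ℕ}

theorem ev_eq (c : Fin (d + 1) → Fin 5 → k) (P : Fin 2 → k) (a : Fin 5) :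
    ev c P a = eval P (bform c a).1 := by
  rw [← eval₂_bform]
  exact congrFun (congrFun (congrArg _ rfl) _) _

theorem dv_eq (c : Fin (d + 1) → Fin 5 → k) (P w : Fin 2 → k) (a : Fin 5) :
    dv c P w a = ∑ i, w i * eval P (pderiv i (bform c a).1) := by
  rw [Fin.sum_univ_two]
  simp only [dv, bform, map_sum, pderiv_C, pderiv_mul, pderiv_pow, pderiv_X_self,
    pderiv_X_of_ne (show (1 : Fin 2) ≠ 0 by decide), pderiv_X_of_ne (show (0 : Fin 2) ≠ 1 by decide),
    map_mul, map_add, map_pow, eval_C, eval_X, map_natCast, map_one, map_zero, Finset.mul_sum]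
  rw [← Finset.sum_add_distrib]
  refine Finset.sum_congr rfl fun m _ => ?_
  ring

theorem emb {c : Fin (d + 1) → Fin 5 → k} (hs : Sep c) (hn : Nz c) : Emb fun a => (bform c a).1 where
  pts P Q hPQ x y h := by
    refine false_of_points hs hn (b := P) (b' := Q) ?_ ?_ hPQ fun a => ?_
    · rintro rfl; simp at hPQ
    · rintro rfl; simp at hPQ
    · rw [ev_eq, ev_eq]
      exact h a
  tan Q hQ ζ w h := by
    obtain ⟨w', hw'⟩ : ∃ w' : Fin 2 → k, Q 0 * w' 1 - Q 1 * w' 0 ≠ 0 := by
      by_cases h3 : Q 0 = 0
      · refine ⟨![1, 0], ?_⟩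
        have h4 : Q 1 ≠ 0 := by
          intro h4
          apply hQ
          ext i; fin_cases i
          exacts [h3, h4]
        simpa using h4
      · exact ⟨![0, 1], by simpa using h3⟩
    have h1 : ∀ a, eval Q (bform c a).1 = eval Q ζ * w a := by
      intro a
      obtain ⟨e, he⟩ := h a
      have := congrArg (eval Q) he
      rw [map_sub, map_mul, map_mul, map_pow, eval_lin_self, eval_C] at this
      linear_combination this
    have h2 : ∀ a i, eval Q (pderiv i (bform c a).1) = eval Q (pderiv i ζ) * w a := by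
      intro a i
      obtain ⟨e, he⟩ := h a
      have := congrArg (fun F => eval Q (pderiv i F)) he
      simp only [map_sub, pderiv_mul, pderiv_C, map_mul, map_add, pderiv_pow, map_pow, eval_lin_self, eval_C,
        map_zero] at this
      linear_combination this
    have h3 := false_of_tangent hs hn hQ hw' (x := -∑ i, w' i * eval Q (pderiv i ζ)) (y := eval Q ζ) fun a => by
      rw [ev_eq, dv_eq, h1]
      simp only [h2]
      rw [Fin.sum_univ_two, Fin.sum_univ_two]
      ring
    obtain ⟨j, hj⟩ := hn Q hQ
    apply hj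
    rw [ev_eq, h1, h3.2, zero_mul]

end K496.QuintEmb
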