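import Groth.Agent.Fano.K475.QuartHom
import Groth.Agent.Fano.K714.ConSplit

/-!
# Homomorphisms from a rank-two conormal sheaf on `P^1` through its splitting

For `i₀ : P^1 ⟶ X₀`, `j₀ : X₀ ⟶ P^4` as in `K475.ConHom` and maps `π_A : conormal i₀ ⟶ O(A)`, `π_B : conormal i₀ ⟶ O(B)`:
* `hom_tv`, `hom_eq_zero_of_lt`: homomorphisms `O(m) ⟶ O(m')`;
* `T_hom_add`, `T_comp`: the values `T` for sums and composites;
* `exists_form`: a homomorphism `O(B) ⟶ O(a)`, `B ≥ 2`, `a = 5`, is multiplication by a form of degree at most three;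
* `exists_functional`: the values of `π_A` on the quadratic forms vanishing on the curve, if `A + 2d ≤ 0`;
* `exists_unit`: `T` of the forms killed by `π_A` is divisible.
-/

set_option autoImplicit false
set_option linter.unusedSectionVars false
universe u

open CategoryTheory AlgebraicGeometry Limits TopologicalSpace Opposite

namespace K496.QuintHom

open LefPen Groth.Agent.Lefpen.H705.HypIdeal Groth.Agent.Fano.K714.Rat
open K390.PnSec K330.FormSec K693.ConFam K475.ConForm K475.ConAlg K475.ConHom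

variable {k : Type u} [Field k]

section Tw

theorem hom_tv {m m' : ℤ} (φ : Twist.twistProjSpace 1 k m ⟶ Twist.twistProjSpace 1 k m') :
    ∃ q : Γ(Twist.twistProjSpace 1 k (m' - m), (⊤ : (CohB1.ProjSpace 1 k).Opens)),
      ∀ (U : (CohB1.ProjSpace 1 k).Opens) (s : Γ(Twist.twistProjSpace 1 k m, U)) (x : U),
        tv (φ.app U s) x = tv q ⟨x.1, trivial⟩ * tv s x := by
  obtain ⟨q, hq⟩ := K699.TwHom.exists_section (n := 1) (R := k) (show m + (m' - m) = m' by ring) φ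
  exact ⟨q, fun U s x => hq U s x.1 x.2⟩

theorem hom_eq_zero_of_lt {m m' : ℤ} (h : m' < m)
    (φ : Twist.twistProjSpace 1 k m ⟶ Twist.twistProjSpace 1 k m') : φ = 0 := by
  obtain ⟨q, hq⟩ := hom_tv φ
  refine Groth.Agent.VarietyB.TwistMul.hom_ext_apply _ _ fun U s => tv_ext fun x => ?_
  rw [hq, tv_eq_zero_of_neg (by omega), zero_mul]
  rfl

theorem hom_form {m m' : ℤ} {b : ℕ} (h : m + b = m')
    (φ : Twist.twistProjSpace 1 k m ⟶ Twist.twistProjSpace 1 k m') :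
    ∃ v : MvPolynomial (Fin 2) k, v.IsHomogeneous b ∧
      ∀ (U : (CohB1.ProjSpace 1 k).Opens) (s : Γ(Twist.twistProjSpace 1 k m, U)) (x : U),
        tv (φ.app U s) x = al x v * tv s x := by
  obtain ⟨a, rfl⟩ := K699.TwHom.exists_mulMap (n := 1) (R := k) h φ
  exact ⟨a.1, (MvPolynomial.mem_homogeneousSubmodule _ _).1 a.2, fun U s x => rfl⟩

/-- Homomorphisms `O(B) ⟶ O(5)` for `B ≥ 2`. -/
theorem exists_form {B : ℤ} (hB : 2 ≤ B) : ∃ m : ℕ, m ≤ 3 ∧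
    ∀ φ : Twist.twistProjSpace 1 k B ⟶ Twist.twistProjSpace 1 k 5, ∃ v : MvPolynomial (Fin 2) k, v.IsHomogeneous m ∧
      ∀ (U : (CohB1.ProjSpace 1 k).Opens) (s : Γ(Twist.twistProjSpace 1 k B, U)) (x : U),
        tv (φ.app U s) x = al x v * tv s x := by
  by_cases h : B ≤ 5
  · obtain ⟨m, hm⟩ := Int.le.dest h
    exact ⟨m, by omega, fun φ => hom_form hm φ⟩
  · refine ⟨0, by norm_num, fun φ => ⟨0, MvPolynomial.isHomogeneous_zero _ _ _, fun U s x => ?_⟩⟩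
    rw [hom_eq_zero_of_lt (by omega) φ, map_zero, zero_mul]
    rfl

end Tw

section Split

attribute [local instance] Abelian.hasFiniteBiproducts

theorem exists_split {E : (CohB1.ProjSpace 1 k).Modules} {a : Fin 2 → ℤ}
    (e : E ≅ ∐ fun j : Fin 2 => Twist.twistProjSpace 1 k (a j)) :
    ∃ (π : ∀ j, E ⟶ Twist.twistProjSpace 1 k (a j)) (ι : ∀ j, Twist.twistProjSpace 1 k (a j) ⟶ E),
      (∀ {M : (CohB1.ProjSpace 1 k).Modules} (D : E ⟶ M), D = π 0 ≫ ι 0 ≫ D + π 1 ≫ ι 1 ≫ D) := by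
  refine ⟨fun j => e.hom ≫ Sigma.π (fun j : Fin 2 => Twist.twistProjSpace 1 k (a j)) j,
    fun j => Sigma.ι (fun j : Fin 2 => Twist.twistProjSpace 1 k (a j)) j ≫ e.inv, fun {M} D => ?_⟩
  have h : ∀ D' : (∐ fun j : Fin 2 => Twist.twistProjSpace 1 k (a j)) ⟶ M,
      D' = Sigma.π (fun j : Fin 2 => Twist.twistProjSpace 1 k (a j)) 0 ≫
          Sigma.ι (fun j : Fin 2 => Twist.twistProjSpace 1 k (a j)) 0 ≫ D' +
        Sigma.π (fun j : Fin 2 => Twist.twistProjSpace 1 k (a j)) 1 ≫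
          Sigma.ι (fun j : Fin 2 => Twist.twistProjSpace 1 k (a j)) 1 ≫ D' := by
    intro D'
    refine Sigma.hom_ext _ _ fun l => ?_
    rw [Preadditive.comp_add]
    fin_cases l
    · have h1 := Sigma.ι_π_eq_id (fun j : Fin 2 => Twist.twistProjSpace 1 k (a j)) 0
      have h2 := Sigma.ι_π_of_ne (fun j : Fin 2 => Twist.twistProjSpace 1 k (a j)) (b := 0) (c := 1) (by decide)
      simp only [Fin.zero_eta]
      rw [reassoc_of% h1, reassoc_of% h2, zero_comp, add_zero]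
    · have h1 := Sigma.ι_π_eq_id (fun j : Fin 2 => Twist.twistProjSpace 1 k (a j)) 1
      have h2 := Sigma.ι_π_of_ne (fun j : Fin 2 => Twist.twistProjSpace 1 k (a j)) (b := 1) (c := 0) (by decide)
      simp only [Fin.mk_one]
      rw [reassoc_of% h1, reassoc_of% h2, zero_comp]
      exact (zero_add _).symm
  have h1 := h (e.inv ≫ D)
  rw [Iso.inv_comp_eq] at h1
  rw [Preadditive.comp_add] at h1
  simpa only [Category.assoc] using h1

end Split

section Main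

variable {X₀ : Scheme.{u}} (i₀ : CohB1.ProjSpace 1 k ⟶ X₀) (j₀ : X₀ ⟶ CohB1.ProjSpace 4 k)

theorem T_hom_add {a : ℤ} (θ θ' : Omega.conormal i₀ ⟶ Twist.twistProjSpace 1 k a) (j : Fin 5)
    (G : MvPolynomial (Fin 5) k) (x : VV i₀ j₀ j) :
    T i₀ j₀ (θ + θ') j G x = T i₀ j₀ θ j G x + T i₀ j₀ θ' j G x := rfl

theorem T_comp {a a' : ℤ} (θ : Omega.conormal i₀ ⟶ Twist.twistProjSpace 1 k a)
    (φ : Twist.twistProjSpace 1 k a ⟶ Twist.twistProjSpace 1 k a') (j : Fin 5)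
    (G : MvPolynomial (Fin 5) k) (x : VV i₀ j₀ j) {y : Loc x}
    (hy : ∀ s : Γ(Twist.twistProjSpace 1 k a, VV i₀ j₀ j), tv (φ.app (VV i₀ j₀ j) s) x = y * tv s x) :
    T i₀ j₀ (θ ≫ φ) j G x = y * T i₀ j₀ θ j G x :=
  hy (θ.app (VV i₀ j₀ j) (cl i₀ j₀ (chart 4 k j) (dl k j G)))

theorem exists_point : ∃ j : Fin 5, Nonempty (VV i₀ j₀ j) := by
  obtain ⟨x⟩ : Nonempty (CohB1.ProjSpace 1 k) := inferInstance
  have hx : x ∈ ⨆ j, VV i₀ j₀ j := by rw [iSup_VV]; trivial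
  obtain ⟨j, hj⟩ := Opens.mem_iSup.1 hx
  exact ⟨j, ⟨⟨x, hj⟩⟩⟩

variable [IsClosedImmersion i₀] [IsClosedImmersion j₀] {d : ℕ} (c : Fin (d + 1) → Fin 5 → k)
  (hφ : GivenBy (i₀ ≫ j₀) (Twist.twistProjSpace 1 k (d : ℤ)) (fun l => glob (bform c l)))
  (hr : (i₀ ≫ j₀) ≫ CohB1.ProjSpace.toSpec 4 k = CohB1.ProjSpace.toSpec 1 k)

theorem sbc_eq_aeval (G : MvPolynomial (Fin 5) k) :
    sbc c G = MvPolynomial.aeval (fun a => (bform c a).1) G := rfl

/-- Quadratic forms vanishing on the curve. -/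
noncomputable def J2 (c : Fin (d + 1) → Fin 5 → k) : Submodule k (MvPolynomial (Fin 5) k) :=
  MvPolynomial.homogeneousSubmodule (Fin 5) k 2 ⊓
    LinearMap.ker (MvPolynomial.aeval (fun a => (bform c a).1) : MvPolynomial (Fin 5) k →ₐ[k] _).toLinearMap

include hφ hr in
/-- The values of `θ` on quadratic forms, if the degree is not positive. -/
theorem exists_functional {A : ℤ} (θ : Omega.conormal i₀ ⟶ Twist.twistProjSpace 1 k A)
    (hA : A + (d * 2 : ℕ) ≤ 0) : ∃ κ : J2 c →ₗ[k] k, ∀ G : J2 c, κ G = 0 →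
      ∀ (j : Fin 5) (x : VV i₀ j₀ j), T i₀ j₀ θ j G.1 x = 0 := by
  have hG : ∀ G : J2 c, G.1.IsHomogeneous 2 := fun G => (MvPolynomial.mem_homogeneousSubmodule _ _).1 G.2.1
  have hG0 : ∀ G : J2 c, sbc c G.1 = 0 := fun G => G.2.2
  rcases hA.lt_or_eq with hA | hA
  · exact ⟨0, fun G _ j x => T_neg i₀ j₀ c hφ hr θ (hG G) (hG0 G) hA j x⟩
  · have h1 : ∀ G : J2 c, ∃ κ : k, ∀ (j : Fin 5) (x : VV i₀ j₀ j),
        T i₀ j₀ θ j G.1 x * al x (bform c j).1 ^ 2 = al x (MvPolynomial.C κ) := fun G =>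
      T_const i₀ j₀ c hφ hr θ (hG G) (hG0 G) hA
    choose κ hκ using h1
    obtain ⟨j₁, ⟨x₁⟩⟩ := exists_point i₀ j₀
    have huniq : ∀ r s : k, al x₁ (MvPolynomial.C r) = al x₁ (MvPolynomial.C s) → r = s := fun r s h =>
      MvPolynomial.C_injective _ _ (al_injective x₁ h)
    have hrd : ∀ (G : J2 c) (j : Fin 5), rho i₀ j₀ (chart 4 k j) (dl k j G.1) = 0 := fun G j =>
      rho_dl i₀ j₀ (bform c) hφ hr (hG G) (hG0 G) j
    refine ⟨{ toFun := κ, map_add' := fun G G' => ?_, map_smul' := fun r G => ?_ }, fun G h j x => ?_⟩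
    · apply huniq
      rw [← hκ (G + G') j₁ x₁, map_add, map_add, ← hκ G j₁ x₁, ← hκ G' j₁ x₁, Submodule.coe_add,
        T_add i₀ j₀ θ x₁ (hrd G j₁) (hrd G' j₁), add_mul]
    · apply huniq
      rw [← hκ (r • G) j₁ x₁, RingHom.id_apply, smul_eq_mul, MvPolynomial.C_mul, map_mul, ← hκ G j₁ x₁, Submodule.coe_smul,
        MvPolynomial.smul_eq_C_mul, T_mul i₀ j₀ θ x₁ _ (hrd G j₁), chi_C i₀ j₀ hr, mul_assoc]
    · have h2 := hκ G j x
      have h3 : κ G = 0 := h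
      rw [h3, map_zero, map_zero] at h2
      exact (mul_eq_zero.1 h2).resolve_right (pow_ne_zero _ (al_ne_zero i₀ j₀ _ hφ j x))

include hφ hr in
/-- Forms killed by `π_A`. -/
theorem exists_unit {A B a : ℤ} (πA : Omega.conormal i₀ ⟶ Twist.twistProjSpace 1 k A)
    (πB : Omega.conormal i₀ ⟶ Twist.twistProjSpace 1 k B) {e : ℕ} {b : ℕ} (hb : B + (d * e : ℕ) = b)
    {G : MvPolynomial (Fin 5) k} (hG : G.IsHomogeneous e) (hG0 : sbc c G = 0)
    (hπ : ∀ (j : Fin 5) (x : VV i₀ j₀ j), T i₀ j₀ πA j G x = 0) :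
    ∃ u : MvPolynomial (Fin 2) k, ∀ (φA : Twist.twistProjSpace 1 k A ⟶ Twist.twistProjSpace 1 k a)
      (φB : Twist.twistProjSpace 1 k B ⟶ Twist.twistProjSpace 1 k a) (v K : MvPolynomial (Fin 2) k),
      (∀ (U : (CohB1.ProjSpace 1 k).Opens) (s : Γ(Twist.twistProjSpace 1 k B, U)) (x : U),
        tv (φB.app U s) x = al x v * tv s x) →
      (∀ (j : Fin 5) (x : VV i₀ j₀ j), T i₀ j₀ (πA ≫ φA + πB ≫ φB) j G x * al x (bform c j).1 ^ e = al x K) →
      K = u * v := by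
  obtain ⟨u, -, hu⟩ := K475.QuartHom.exists_poly i₀ j₀ c hφ hr πB hG hG0 hb
  refine ⟨u, fun φA φB v K hv hK => ?_⟩
  obtain ⟨j₁, ⟨x₁⟩⟩ := exists_point i₀ j₀
  apply al_injective x₁
  obtain ⟨q, hq⟩ := hom_tv φA
  rw [← hK j₁ x₁, T_hom_add, T_comp i₀ j₀ πA φA j₁ G x₁ (fun s => hq _ s x₁), hπ, mul_zero, zero_add,
    T_comp i₀ j₀ πB φB j₁ G x₁ (fun s => hv _ s x₁), map_mul, ← hu j₁ x₁]
  ring

end Main

end K496.QuintHom
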