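import Groth.Agent.Fano.K496.QuintDat
import Groth.Agent.Cubic.K656.Trilin
import Groth.Agent.FunFld.K669.MvPolyDer

/-!
# Polarization, restriction to subspaces and adapted bases

* `tau f`: the coefficients of the trilinear form of a cubic form, `aeval_pderiv_eq`, `aeval_eq`;
* `push b x`: the vector with coordinates `x` in the family `b`; `res τ b`, `tri_res`;
* `exists_coord`: coordinates of a vector of forms with values in a subspace;
* `exists_adapted`: bases adapted to a linear map.
-/

set_option autoImplicit false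

namespace K496.QuintLin

open MvPolynomial K713.BinFactor K496.BinAlg K496.QuintDat

variable {k : Type*} [Field k] {n r : ℕ}

section Polar

/-- The coefficients of the symmetric trilinear form of a cubic form. -/
noncomputable def tau (f : MvPolynomial (Fin n) k) (a b d : Fin n) : k := K656.Trilin.coef f a b d / 6

theorem tau_s12 (f : MvPolynomial (Fin n) k) (a b d : Fin n) : tau f a b d = tau f b a d := by
  rw [tau, tau, K656.Trilin.coef_s12]

theorem tau_s23 (f : MvPolynomial (Fin n) k) (a b d : Fin n) : tau f a b d = tau f a d b := by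
  rw [tau, tau, K656.Trilin.coef_s23]

theorem eval_tri (τ : Fin n → Fin n → Fin n → k) (x y z : Fin n → MvPolynomial (Fin 2) k) (P : Fin 2 → k) :
    eval P (tri τ x y z) = ∑ a, ∑ b, ∑ d, τ a b d * (eval P (x a) * eval P (y b) * eval P (z d)) := by
  simp [tri, map_sum]

theorem eval_tri_tau (f : MvPolynomial (Fin n) k) (x y z : Fin n → MvPolynomial (Fin 2) k) (P : Fin 2 → k) :
    eval P (tri (tau f) x y z) =
      K656.Trilin.tri f (fun a => eval P (x a)) (fun a => eval P (y a)) (fun a => eval P (z a)) := by
  rw [eval_tri, K656.Trilin.tri_apply]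
  rw [Finset.sum_congr rfl fun a _ => Finset.sum_comm, Finset.sum_comm,
    Finset.sum_congr rfl fun a _ => Finset.sum_comm]
  rfl

theorem eval_aeval (G : MvPolynomial (Fin n) k) (x : Fin n → MvPolynomial (Fin 2) k) (P : Fin 2 → k) :
    eval P (aeval x G) = eval (fun a => eval P (x a)) G := by
  rw [← MvPolynomial.aeval_eq_eval, ← MvPolynomial.aeval_eq_eval, MvPolynomial.comp_aeval_apply]

variable [CharZero k]

theorem aeval_eq {f : MvPolynomial (Fin n) k} (hf : f.IsHomogeneous 3) (x : Fin n → MvPolynomial (Fin 2) k) :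
    aeval x f = tri (tau f) x x x := by
  have : Infinite k := Infinite.of_injective ((↑) : ℕ → k) Nat.cast_injective
  refine MvPolynomial.funext fun P => ?_
  rw [eval_aeval, eval_tri_tau, K656.Trilin.tri_diag hf]

theorem aeval_pderiv_eq {f : MvPolynomial (Fin n) k} (hf : f.IsHomogeneous 3) (x : Fin n → MvPolynomial (Fin 2) k)
    (a : Fin n) : aeval x (pderiv a f) = 3 * tri (tau f) x x (Pi.single a 1) := by
  have : Infinite k := Infinite.of_injective ((↑) : ℕ → k) Nat.cast_injective
  refine MvPolynomial.funext fun P => ?_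
  have h3 : (fun b => eval P ((Pi.single a 1 : Fin n → MvPolynomial (Fin 2) k) b)) = Pi.single a 1 := by
    ext b
    by_cases h : b = a
    · subst h; simp
    · simp [h]
  rw [eval_aeval, map_mul, eval_tri_tau, ← K656.Trilin.tri_pderiv_single hf, h3]
  simp

end Polar

section Push

/-- The vector with coordinates `x` in the family `b`. -/
noncomputable def push (b : Fin r → Fin n → k) (x : Fin r → MvPolynomial (Fin 2) k) : Fin n → MvPolynomial (Fin 2) k :=
  fun a => ∑ i, x i * C (b i a)

/-- The restriction of a trilinear form. -/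
def res (τ : Fin n → Fin n → Fin n → k) (b : Fin r → Fin n → k) (i j l : Fin r) : k :=
  ∑ a, ∑ a', ∑ a'', τ a a' a'' * (b i a * b j a' * b l a'')

theorem push_eq_sum (b : Fin r → Fin n → k) (x : Fin r → MvPolynomial (Fin 2) k) :
    push b x = ∑ i, x i • cv (b i) := by
  ext1 a
  rw [Finset.sum_apply]
  rfl

theorem push_single (b : Fin r → Fin n → k) (i : Fin r) : push b (Pi.single i 1) = cv (b i) := by
  rw [push_eq_sum, Finset.sum_eq_single i]
  · simp
  · intro j _ hj; simp [hj]
  · simp

theorem tri_sum₁ {ι : Type*} (τ : Fin n → Fin n → Fin n → k) (s : Finset ι) (x : ι → Fin n → MvPolynomial (Fin 2) k)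
    (y z : Fin n → MvPolynomial (Fin 2) k) : tri τ (∑ i ∈ s, x i) y z = ∑ i ∈ s, tri τ (x i) y z := by
  classical
  induction s using Finset.induction_on with
  | empty => simp [tri_zero₁]
  | insert a s ha ih => rw [Finset.sum_insert ha, Finset.sum_insert ha, tri_add₁, ih]

theorem tri_sum₂ {ι : Type*} (τ : Fin n → Fin n → Fin n → k) (s : Finset ι) (y : ι → Fin n → MvPolynomial (Fin 2) k)
    (x z : Fin n → MvPolynomial (Fin 2) k) : tri τ x (∑ i ∈ s, y i) z = ∑ i ∈ s, tri τ x (y i) z := by
  classical
  induction s using Finset.induction_on with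
  | empty => simp [tri_zero₂]
  | insert a s ha ih => rw [Finset.sum_insert ha, Finset.sum_insert ha, tri_add₂, ih]

theorem tri_sum₃ {ι : Type*} (τ : Fin n → Fin n → Fin n → k) (s : Finset ι) (z : ι → Fin n → MvPolynomial (Fin 2) k)
    (x y : Fin n → MvPolynomial (Fin 2) k) : tri τ x y (∑ i ∈ s, z i) = ∑ i ∈ s, tri τ x y (z i) := by
  classical
  induction s using Finset.induction_on with
  | empty => simp [tri_zero₃]
  | insert a s ha ih => rw [Finset.sum_insert ha, Finset.sum_insert ha, tri_add₃, ih]

theorem tri_cv (τ : Fin n → Fin n → Fin n → k) (b : Fin r → Fin n → k) (i j l : Fin r) :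
    tri τ (cv (b i)) (cv (b j)) (cv (b l)) = C (res τ b i j l) := by
  simp only [tri, cv, res, map_sum, map_mul]

theorem tri_res (τ : Fin n → Fin n → Fin n → k) (b : Fin r → Fin n → k) (x y z : Fin r → MvPolynomial (Fin 2) k) :
    tri (res τ b) x y z = tri τ (push b x) (push b y) (push b z) := by
  rw [push_eq_sum, push_eq_sum, push_eq_sum, tri_sum₁, tri]
  refine Finset.sum_congr rfl fun i _ => ?_
  rw [tri_smul₁, tri_sum₂, Finset.mul_sum]
  refine Finset.sum_congr rfl fun j _ => ?_
  rw [tri_smul₂, tri_sum₃, Finset.mul_sum, Finset.mul_sum]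
  refine Finset.sum_congr rfl fun l _ => ?_
  rw [tri_smul₃, tri_cv]
  ring

theorem res_s12 {τ : Fin n → Fin n → Fin n → k} (h : ∀ a b d, τ a b d = τ b a d) (b : Fin r → Fin n → k)
    (i j l : Fin r) : res τ b i j l = res τ b j i l := by
  rw [res, res, Finset.sum_comm]
  refine Finset.sum_congr rfl fun a _ => Finset.sum_congr rfl fun a' _ => Finset.sum_congr rfl fun a'' _ => ?_
  rw [h a' a]; ring

theorem res_s23 {τ : Fin n → Fin n → Fin n → k} (h : ∀ a b d, τ a b d = τ a d b) (b : Fin r → Fin n → k)
    (i j l : Fin r) : res τ b i j l = res τ b i l j := by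
  rw [res, res]
  refine Finset.sum_congr rfl fun a _ => ?_
  rw [Finset.sum_comm]
  refine Finset.sum_congr rfl fun a' _ => Finset.sum_congr rfl fun a'' _ => ?_
  rw [h a a'' a']; ring

/-- Coordinates of an embedded curve with values in a subspace. -/
theorem emb_of_push {b : Fin r → Fin n → k} {x : Fin r → MvPolynomial (Fin 2) k} (h : Emb (push b x)) : Emb x where
  pts P Q hPQ s t hst := by
    refine h.pts P Q hPQ s t fun a => ?_
    simp only [push, map_sum, map_mul, eval_C, Finset.mul_sum]
    rw [← Finset.sum_add_distrib]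
    refine Finset.sum_eq_zero fun i _ => ?_
    linear_combination (b i a) * hst i
  tan Q hQ ζ w hw := by
    refine h.tan Q hQ ζ (fun a => ∑ i, w i * b i a) fun a => ?_
    have h1 : push b x a - ζ * C (∑ i, w i * b i a) = ∑ i, C (b i a) * (x i - ζ * C (w i)) := by
      simp only [push, map_sum, map_mul, Finset.mul_sum, ← Finset.sum_sub_distrib]
      refine Finset.sum_congr rfl fun i _ => ?_
      ring
    rw [h1]
    exact Finset.dvd_sum fun i _ => (hw i).mul_left _

end Push

section Lin

/-- Coordinates of a vector of forms with values in a subspace. -/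
theorem exists_coord {W : Submodule k (Fin n → k)} (b : Module.Basis (Fin r) k W) (c : Fin n → MvPolynomial (Fin 2) k)
    (hc : ∀ μ : Fin n → k, (∀ x ∈ W, ∑ a, μ a * x a = 0) → ∑ a, C (μ a) * c a = 0) :
    ∃ M : Fin r → Fin n → k, (∀ i j, ∑ a, M i a * (b j).1 a = if i = j then 1 else 0) ∧
      c = push (fun i => (b i).1) (fun i => ∑ a, C (M i a) * c a) := by
  obtain ⟨π, hπ⟩ := W.subtype.exists_leftInverse_of_injective (LinearMap.ker_eq_bot.2 W.injective_subtype)
  have hπ' : ∀ w : W, π w.1 = w := fun w => congrArg (fun φ : W →ₗ[k] W => φ w) hπ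
  let M : Fin r → Fin n → k := fun i a => b.repr (π (Pi.single a 1)) i
  have hM : ∀ (i : Fin r) (x : Fin n → k), ∑ a, M i a * x a = b.repr (π x) i := by
    intro i x
    have h1 : x = ∑ a, x a • (Pi.single a 1 : Fin n → k) := by
      ext a
      simp [Finset.sum_apply, Pi.single_apply]
    conv_rhs => rw [h1]
    rw [map_sum, map_sum, Finsupp.finsetSum_apply]
    refine Finset.sum_congr rfl fun a _ => ?_
    rw [map_smul, map_smul, Finsupp.smul_apply, smul_eq_mul, mul_comm]
  refine ⟨M, fun i j => ?_, ?_⟩
  · rw [hM, hπ', b.repr_self, Finsupp.single_apply]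
    simp only [eq_comm]
  · ext1 a
    have h1 := hc (fun a' => (if a' = a then 1 else 0) - ∑ i, (b i).1 a * M i a') (fun x hx => by
      have h2 := congrArg (fun w : W => w.1 a) (b.sum_repr ⟨x, hx⟩)
      simp only [Submodule.coe_sum, Submodule.coe_smul, Finset.sum_apply, Pi.smul_apply, smul_eq_mul] at h2
      have h3 : ∀ i, b.repr ⟨x, hx⟩ i = ∑ a', M i a' * x a' := fun i => by
        rw [hM, hπ' ⟨x, hx⟩]
      simp only [h3] at h2
      simp only [sub_mul, ite_mul, one_mul, zero_mul, Finset.sum_sub_distrib, Finset.sum_ite_eq', Finset.mem_univ,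
        if_true, Finset.sum_mul]
      rw [← h2, Finset.sum_comm, sub_eq_zero]
      refine Finset.sum_congr rfl fun i _ => ?_
      rw [Finset.sum_mul]
      exact Finset.sum_congr rfl fun a' _ => by ring)
    have h4 : ∀ a', C ((if a' = a then (1 : k) else 0) - ∑ i, (b i).1 a * M i a') * c a' =
        (if a' = a then c a' else 0) - ∑ i, C (M i a') * c a' * C ((b i).1 a) := by
      intro a'
      rw [map_sub, sub_mul, map_sum, Finset.sum_mul]
      congr 1
      · split_ifs <;> simp
      · refine Finset.sum_congr rfl fun i _ => ?_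
        rw [map_mul]; ring
    simp only [h4, Finset.sum_sub_distrib, Finset.sum_ite_eq', Finset.mem_univ, if_true] at h1
    rw [sub_eq_zero] at h1
    rw [h1, push, Finset.sum_comm]
    exact Finset.sum_congr rfl fun i _ => by rw [Finset.sum_mul]

/-- Bases adapted to a linear map. -/
theorem exists_adapted {V W : Type*} [AddCommGroup V] [Module k V] [AddCommGroup W] [Module k W]
    [FiniteDimensional k V] (g : V →ₗ[k] W) (N : ℕ) (hN : Module.finrank k V = N) :
    ∃ (b : Module.Basis (Fin N) k V) (s : ℕ), s ≤ N ∧ (∀ i : Fin N, s ≤ (i : ℕ) → g (b i) = 0) ∧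
      ∀ x : Fin N → k, (∀ i : Fin N, s ≤ (i : ℕ) → x i = 0) → ∑ i, x i • g (b i) = 0 → x = 0 := by
  have hfin : FiniteDimensional k (LinearMap.range g) := inferInstance
  have hdim := LinearMap.finrank_range_add_finrank_ker g
  rw [hN] at hdim
  obtain ⟨s, hs⟩ : ∃ s, Module.finrank k (LinearMap.range g) = s := ⟨_, rfl⟩
  obtain ⟨t, ht⟩ : ∃ t, Module.finrank k (LinearMap.ker g) = t := ⟨_, rfl⟩
  rw [hs, ht] at hdim
  subst hdim
  let R := Module.finBasisOfFinrankEq k (LinearMap.range g) hs
  let K := Module.finBasisOfFinrankEq k (LinearMap.ker g) ht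
  choose l hl using fun i => (R i).2
  let v : Fin (s + t) → V := Fin.append l (fun j => (K j).1)
  have hgv1 : ∀ i : Fin s, g (v (Fin.castAdd t i)) = (R i).1 := fun i => by
    have h1 : v (Fin.castAdd t i) = l i := Fin.append_left _ _ _
    rw [h1]; exact hl i
  have hgv2 : ∀ i : Fin t, g (v (Fin.natAdd s i)) = 0 := fun i => by
    have h1 : v (Fin.natAdd s i) = (K i).1 := Fin.append_right _ _ _
    rw [h1]; exact (K i).2
  have hsum : ∀ x : Fin (s + t) → k, ∑ i, x i • g (v i) = 0 → ∀ i : Fin s, x (Fin.castAdd t i) = 0 := by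
    intro x hx
    rw [Fin.sum_univ_add] at hx
    simp only [hgv1, hgv2, smul_zero, Finset.sum_const_zero, add_zero] at hx
    have h1 : ∑ i, x (Fin.castAdd t i) • R i = 0 := by
      apply Subtype.ext
      rw [Submodule.coe_sum]
      exact hx
    exact Fintype.linearIndependent_iff.1 R.linearIndependent _ h1
  have hli : LinearIndependent k v := by
    rw [Fintype.linearIndependent_iff]
    intro x hx
    have h1 : ∀ i : Fin s, x (Fin.castAdd t i) = 0 := by
      apply hsum
      have := congrArg g hx
      rw [map_sum, map_zero] at this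
      rw [← this]
      exact Finset.sum_congr rfl fun i _ => (map_smul g _ _).symm
    have h2 : ∀ i : Fin t, x (Fin.natAdd s i) = 0 := by
      rw [Fin.sum_univ_add] at hx
      simp only [h1, zero_smul, Finset.sum_const_zero, zero_add] at hx
      have h3 : ∑ i, x (Fin.natAdd s i) • K i = 0 := by
        apply Subtype.ext
        rw [Submodule.coe_sum]
        refine Eq.trans ?_ hx
        refine Finset.sum_congr rfl fun i _ => ?_
        rw [Submodule.coe_smul]
        congr 1
        exact (Fin.append_right l (fun j => (K j).1) i).symm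
      exact Fintype.linearIndependent_iff.1 K.linearIndependent _ h3
    intro i
    refine Fin.addCases h1 h2 i
  refine ⟨Module.Basis.mk hli (hli.span_eq_top_of_card_eq_finrank' (by rw [Fintype.card_fin, hN])).ge, s,
    Nat.le_add_right _ _, ?_, ?_⟩
  · intro i hi
    rw [Module.Basis.mk_apply]
    obtain ⟨j, rfl⟩ : ∃ j : Fin t, i = Fin.natAdd s j := ⟨⟨i - s, by omega⟩, by ext; simp; omega⟩
    exact hgv2 j
  · intro x hx hx0
    simp only [Module.Basis.mk_apply] at hx0
    have h1 := hsum x hx0
    ext i
    by_cases hi : s ≤ (i : ℕ)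
    · exact hx i hi
    · obtain ⟨j, rfl⟩ : ∃ j : Fin s, i = Fin.castAdd t j := ⟨⟨i, by omega⟩, by ext; simp⟩
      exact h1 j

end Lin

end K496.QuintLin
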