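import Groth.Agent.Fano.K496.QuintHom
import Groth.Agent.Fano.K496.QuintAlg
import Groth.Agent.Fano.K496.QuintEmb
import Groth.Agent.Fano.K434.DerHom
import Groth.Agent.Fano.K475.RatPar
import Groth.Agent.Fano.K287.ConDeg
import Groth.Agent.Fano.K501.RankEmb

/-!
# Smooth rational quintics on a smooth cubic threefold are unobstructed

`hom_conormal_quintic`: for a closed immersion `i : P^1 ⟶ X` of degree `5` into a smooth cubic threefold, every
homomorphism `conormal i ⟶ O(-10)` vanishes (hence `H^1(N) = 0`).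
-/

set_option autoImplicit false
set_option linter.unusedSectionVars false
universe u

open CategoryTheory AlgebraicGeometry Limits TopologicalSpace Opposite

namespace K496.QuintShf

open LefPen Groth.Agent.Lefpen.H705.HypIdeal Groth.Agent.Fano.K714.Rat
open K390.PnSec K330.FormSec K693.ConFam K475.ConForm K475.ConAlg K475.ConHom K496.QuintHom

theorem hom_conormal_quintic {k : Type u} [Field k] [IsAlgClosed k] [CharZero k] (f : LefPen.Form 4 k 3) (hf : f ≠ 0)
    [hS : Smooth (ps f)] (i : CohB1.ProjSpace 1 k ⟶ Xf f) [IsClosedImmersion i]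
    (c : Fin 6 → Fin 5 → k) (hi : IsPar f 5 c i)
    (θ : Omega.conormal i ⟶ Twist.twistProjSpace 1 k (-10)) : θ = 0 := by
  have hφ : GivenBy (i ≫ emb f) (Twist.twistProjSpace 1 k ((5 : ℕ) : ℤ)) (fun l => glob (bform (d := 5) c l)) := hi.2
  have hr : (i ≫ emb f) ≫ CohB1.ProjSpace.toSpec 4 k = CohB1.ProjSpace.toSpec 1 k := by
    rw [Category.assoc]; exact hi.1
  have : Infinite k := IsAlgClosed.instInfinite
  have hfh : f.1.IsHomogeneous 3 := (MvPolynomial.mem_homogeneousSubmodule _ _).1 f.2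
  have hf0 : f.1 ≠ 0 := fun h => hf (Subtype.ext h)
  by_contra hθ
  -- the splitting
  obtain ⟨d, ⟨hd, ⟨e⟩⟩, -⟩ := Groth.Agent.S7797.result k 2 _ (Groth.Agent.Fano.K287.ConDeg.locFree_conormal f hf i hi.1)
  have hsum := Groth.Agent.Fano.K287.ConDeg.extPow_conormal f hf i hi.1 5 (K501.RankEmb.deg_of_isPar f hi) d ⟨e⟩
  have hd10 : d 1 ≤ d 0 := hd (by decide)
  obtain ⟨π, ι, hD⟩ := exists_split e
  have hA : d 1 ≤ -10 := by
    by_contra hlt
    apply hθ
    rw [hD θ, hom_eq_zero_of_lt (by omega) (ι 0 ≫ θ), hom_eq_zero_of_lt (by omega) (ι 1 ≫ θ), comp_zero, comp_zero,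
      add_zero]
  have hB : 2 ≤ d 0 := by push_cast at hsum; omega
  -- the parametrisation
  have hc : ∀ a, (bform (d := 5) c a).1.IsHomogeneous 5 := fun a =>
    (MvPolynomial.mem_homogeneousSubmodule _ _).1 (bform (d := 5) c a).2
  have hfc : MvPolynomial.aeval (fun a => (bform (d := 5) c a).1) f.1 = 0 := by
    refine MvPolynomial.funext fun x => ?_
    rw [map_zero, K496.QuintLin.eval_aeval]
    have h1 : (fun l => MvPolynomial.eval x (bform (d := 5) c l).1) = cpt (d := 5) c (x 0) (x 1) :=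
      funext fun l => eval_bform (d := 5) c l x
    rw [h1]
    exact K475.RatPar.eval_cpt f (by norm_num) hi _ _
  have hsm : ∀ x : Fin 5 → k, x ≠ 0 → MvPolynomial.eval x f.1 = 0 →
      ∃ a, MvPolynomial.eval x (MvPolynomial.pderiv a f.1) ≠ 0 := by
    have hs := (Groth.Agent.Lefpen.H703.NondegQuadCrit.smooth_hyp_iff (m := 4) (by norm_num) f hf0).1 hS
    exact fun x hx hx0 => (hs x hx).resolve_left (not_not_intro hx0)
  have hemb : K496.QuintDat.Emb fun a => (bform (d := 5) c a).1 :=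
    K496.QuintEmb.emb (K475.RatClass.sep (d := 5) hr hφ) (K475.RatClass.nz (d := 5) hr hφ)
  -- the derivations
  have hp : ∀ a, (sbc (d := 5) c (MvPolynomial.pderiv a f.1)).IsHomogeneous 10 := K496.QuintAlg.isHomogeneous_p hfh hc
  let p : Fin 5 → LefPen.Form 1 k 10 := fun a => ⟨_, (MvPolynomial.mem_homogeneousSubmodule _ _).2 (hp a)⟩
  have hder : ∀ a b : Fin 5, ∃ D : Omega.conormal i ⟶ Twist.twistProjSpace 1 k 5,
      ∀ (e : ℕ) (G : MvPolynomial (Fin 5) k), G.IsHomogeneous e → sbc (d := 5) c G = 0 →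
        ∀ (j : Fin 5) (x : VV i (emb f) j), T i (emb f) D j G x * al x (bform (d := 5) c j).1 ^ e =
          al x (sbc (d := 5) c (MvPolynomial.pderiv b f.1) * sbc (d := 5) c (MvPolynomial.pderiv a G) -
            sbc (d := 5) c (MvPolynomial.pderiv a f.1) * sbc (d := 5) c (MvPolynomial.pderiv b G)) := by
    intro a b
    have hsum' : ∀ g : Fin 5 → MvPolynomial (Fin 2) k,
        ∑ l, (Pi.single a (p b) - Pi.single b (p a) : Fin 5 → LefPen.Form 1 k 10) l * g l = (p b).1 * g a - (p a).1 * g b := by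
      intro g
      have h1 : ∀ l, (((Pi.single a (p b) - Pi.single b (p a) : Fin 5 → LefPen.Form 1 k 10) l).1 : MvPolynomial (Fin 2) k) * g l =
          (if l = a then (p b).1 * g l else 0) - (if l = b then (p a).1 * g l else 0) := by
        intro l
        rw [Pi.sub_apply, Submodule.coe_sub, sub_mul, Pi.single_apply, Pi.single_apply]
        congr 1 <;> split_ifs <;> simp
      simp only [h1, Finset.sum_sub_distrib, Finset.sum_ite_eq', Finset.mem_univ, if_true]
    obtain ⟨D, hD'⟩ := K434.Der.exists_der f i (d := 5) c hi (n := 10) (a := 5) rfl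
      (Pi.single a (p b) - Pi.single b (p a)) (by
        rw [hsum' fun l => sb (N := 4) (bform (d := 5) c) (MvPolynomial.pderiv l f.1)]
        exact sub_eq_zero.2 (mul_comm _ _))
    refine ⟨D, fun e G hG hG0 j x => ?_⟩
    rw [hD' e G hG hG0 j x, hsum' fun l => sb (N := 4) (bform (d := 5) c) (MvPolynomial.pderiv l G)]
  choose D hDer using hder
  obtain ⟨m, hm, hform⟩ := exists_form (k := k) hB
  choose v hv hv' using fun a b => hform (ι 0 ≫ D a b)
  obtain ⟨κ, hκ⟩ := exists_functional i (emb f) (d := 5) c hφ hr (π 1) (by push_cast; omega)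
  have key : ∀ (e b : ℕ) (_ : d 0 + (5 * e : ℕ) = b) (G : MvPolynomial (Fin 5) k), G.IsHomogeneous e →
      sbc (d := 5) c G = 0 → (∀ (j : Fin 5) (x : VV i (emb f) j), T i (emb f) (π 1) j G x = 0) →
      ∃ u, ∀ a b, sbc (d := 5) c (MvPolynomial.pderiv b f.1) * sbc (d := 5) c (MvPolynomial.pderiv a G) -
            sbc (d := 5) c (MvPolynomial.pderiv a f.1) * sbc (d := 5) c (MvPolynomial.pderiv b G) = u * v a b := by
    intro e b hb G hG hG0 hπ
    obtain ⟨u, hu⟩ := exists_unit i (emb f) (d := 5) c hφ hr (a := 5) (π 1) (π 0) hb hG hG0 hπ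
    refine ⟨u, fun a b => hu (ι 1 ≫ D a b) (ι 0 ≫ D a b) _ _ (hv' a b) fun j x => ?_⟩
    have h5 : π 1 ≫ ι 1 ≫ D a b + π 0 ≫ ι 0 ≫ D a b = D a b := (add_comm _ _).trans (hD (D a b)).symm
    rw [h5]
    exact hDer a b e G hG hG0 j x
  refine K496.QuintAlg.main hfh hsm hc hemb hfc hm hv (fun G hG hG0 => ?_) κ fun G hG => ?_
  · exact key 1 (d 0 + 5).toNat (by push_cast; omega) G hG hG0 fun j x =>
      T_neg i (emb f) (d := 5) c hφ hr (π 1) hG hG0 (by push_cast; omega) j x
  · exact key 2 (d 0 + 10).toNat (by push_cast; omega) G.1 ((MvPolynomial.mem_homogeneousSubmodule _ _).1 G.2.1)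
      G.2.2 (hκ G hG)

end K496.QuintShf
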